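import Groth.Agent.GrpLim26.Basic

/-!
# Monomorphisms, normal and central subgroups descend along limits
-/

set_option autoImplicit false
set_option linter.style.haveILetI false
set_option backward.isDefEq.respectTransparency.types false
universe u

namespace Groth.Agent.GrpLim26
open CategoryTheory CategoryTheory.Limits MonoidalCategory CartesianMonoidalCategory MonObj GrpObj AlgebraicGeometry

section
variable {C : Type*} [Category C] [CartesianMonoidalCategory C] {G H : C} [GrpObj G] [GrpObj H] (u : H ⟶ G)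

/-- The conjugation `(g, n) ↦ g u(n) g⁻¹`. -/
def conjMor : G ⊗ H ⟶ G := fst G H * (snd G H ≫ u) * (fst G H)⁻¹

theorem conjMor_comp {T : C} (g : T ⟶ G) (n : T ⟶ H) : lift g n ≫ conjMor u = g * (n ≫ u) * g⁻¹ := by
  simp [conjMor, MonObj.comp_mul, GrpObj.comp_inv]

theorem normal_iff : (∀ (T : C) (g : T ⟶ G) (n : T ⟶ H), ∃ n' : T ⟶ H, g * (n ≫ u) * g⁻¹ = n' ≫ u) ↔
    ∃ h : G ⊗ H ⟶ H, h ≫ u = conjMor u :=
  ⟨fun h => (h (G ⊗ H) (fst G H) (snd G H)).imp fun _ e => e.symm, fun ⟨h, hh⟩ T g n =>
    ⟨lift g n ≫ h, by rw [Category.assoc, hh, conjMor_comp]⟩⟩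

theorem central_iff : (∀ (T : C) (g : T ⟶ G) (n : T ⟶ H), g * (n ≫ u) = (n ≫ u) * g) ↔
    conjMor u = snd G H ≫ u := by
  constructor
  · intro h
    rw [conjMor, h _ (fst G H) (snd G H), mul_inv_cancel_right]
  · intro h T g n
    have := congrArg (lift g n ≫ ·) h
    simp only [conjMor_comp, lift_snd_assoc] at this
    exact mul_inv_eq_iff_eq_mul.1 this

end

variable {S S' : Scheme.{u}} (p : S' ⟶ S) {G H : Over S} [GrpObj G] [GrpObj H] (u : H ⟶ G)

theorem μ_map_conjMor : Functor.LaxMonoidal.μ (Over.pullback p) G H ≫ (Over.pullback p).map (conjMor u) =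
    conjMor (G := Red.bc p G) (H := Red.bc p H) ((Over.pullback p).map u) := by
  let F := Over.pullback p
  have h1 : F.map (conjMor u) = F.map (fst G H) * (F.map (snd G H) ≫ F.map u) * (F.map (fst G H))⁻¹ := by
    have h2 : ∀ x : G ⊗ H ⟶ G, F.map x⁻¹ = (F.map x)⁻¹ := fun x => by
      refine eq_inv_of_mul_eq_one_left ?_
      rw [← F.map_mul, inv_mul_cancel]
      exact map_one F.homMonoidHom
    rw [conjMor, F.map_mul, F.map_mul, h2, F.map_comp]
  rw [h1]
  simp only [MonObj.comp_mul, GrpObj.comp_inv, conjMor, ← Category.assoc, F, Functor.Monoidal.μ_fst,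
    Functor.Monoidal.μ_snd]

theorem normal_bc_iff :
    AlgGrp.IsNormalHom ((Over.pullback p).map u : Red.bc p H ⟶ Red.bc p G) ↔
      ∃ h : Red.bc p (G ⊗ H) ⟶ Red.bc p H, h ≫ (Over.pullback p).map u = (Over.pullback p).map (conjMor u) := by
  let F := Over.pullback p
  refine (normal_iff (G := Red.bc p G) (H := Red.bc p H) (F.map u)).trans ⟨fun ⟨h, hh⟩ => ?_, fun ⟨h, hh⟩ => ?_⟩
  · refine ⟨inv (Functor.LaxMonoidal.μ F G H) ≫ h, ?_⟩
    rw [Category.assoc, IsIso.inv_comp_eq, μ_map_conjMor]
    exact hh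
  · refine ⟨Functor.LaxMonoidal.μ F G H ≫ h, ?_⟩
    rw [Category.assoc, ← μ_map_conjMor]
    exact congrArg (Functor.LaxMonoidal.μ F G H ≫ ·) hh

theorem central_bc_iff :
    (∀ (T : Over S') (g : T ⟶ Red.bc p G) (n : T ⟶ Red.bc p H),
        g * (n ≫ (Over.pullback p).map u) = (n ≫ (Over.pullback p).map u) * g) ↔
      (Over.pullback p).map (conjMor u) = (Over.pullback p).map (snd G H ≫ u) := by
  let F := Over.pullback p
  refine (central_iff (G := Red.bc p G) (H := Red.bc p H) (F.map u)).trans ?_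
  rw [← μ_map_conjMor, ← Functor.Monoidal.μ_snd F, Category.assoc, ← F.map_comp, cancel_epi]

/-- Iterated base change of morphisms. -/
noncomputable def cmpNat {S'' : Scheme.{u}} {g : S'' ⟶ S'} {f : S' ⟶ S} {q : S'' ⟶ S} (h : g ≫ f = q) :
    Over.pullback f ⋙ Over.pullback g ≅ Over.pullback q :=
  (Over.pullbackComp g f).symm ≪≫ eqToIso (by subst h; rfl)

/-- Factorisations are transported along natural isomorphisms. -/
theorem transfer {A B : Type*} [Category A] [Category B] {F F' : A ⥤ B} (e : F ≅ F') {W X Y : A} {v : X ⟶ Y} {m : W ⟶ Y}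
    {z : F.obj W ⟶ F.obj X} (hz : z ≫ F.map v = F.map m) :
    (e.inv.app W ≫ z ≫ e.hom.app X) ≫ F'.map v = F'.map m := by
  rw [Category.assoc, Category.assoc, ← e.hom.naturality v, reassoc_of% hz, e.hom.naturality m,
    Iso.inv_hom_id_app_assoc]

section Limit
variable {I : Type u} [SmallCategory I] [IsCofiltered I] {D : I ⥤ Scheme.{u}} {c : Cone D}
  [∀ (i i' : I) (f : i ⟶ i'), IsAffineHom (D.map f)] [∀ i, CompactSpace (D.obj i)] [∀ i, QuasiSeparatedSpace (D.obj i)]
  (hc : IsLimit c) {j : I}

/-- An equation between base changes is stable under further base change. -/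
theorem map_eq_mono {X Y : Over (D.obj j)} {a b : X ⟶ Y} {i i' : I} {f : i ⟶ j} (g : i' ⟶ i)
    (h : (Over.pullback (D.map f)).map a = (Over.pullback (D.map f)).map b) :
    (Over.pullback (D.map (g ≫ f))).map a = (Over.pullback (D.map (g ≫ f))).map b := by
  have e := cmpNat (D.map_comp g f).symm
  rw [← NatIso.naturality_1 e a, ← NatIso.naturality_1 e b, Functor.comp_map, Functor.comp_map, h]

/-- A factorisation over a stage is stable under further base change. -/
theorem lift_mono {W X Y : Over (D.obj j)} {v : X ⟶ Y} {m : W ⟶ Y} {i i' : I} {f : i ⟶ j} (g : i' ⟶ i)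
    (h : ∃ z : Red.bc (D.map f) W ⟶ Red.bc (D.map f) X,
      z ≫ (Over.pullback (D.map f)).map v = (Over.pullback (D.map f)).map m) :
    ∃ z : Red.bc (D.map (g ≫ f)) W ⟶ Red.bc (D.map (g ≫ f)) X,
      z ≫ (Over.pullback (D.map (g ≫ f))).map v = (Over.pullback (D.map (g ≫ f))).map m := by
  obtain ⟨z, hz⟩ := h
  let e := cmpNat (D.map_comp g f).symm
  refine ⟨e.inv.app W ≫ (Over.pullback (D.map g)).map z ≫ e.hom.app X, ?_⟩
  exact transfer e ((Functor.map_comp _ _ _).symm.trans (congrArg _ hz))

/-- Monomorphy over a stage is stable under further base change. -/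
theorem mono_mono {X Y : Over (D.obj j)} {v : X ⟶ Y} {i i' : I} {f : i ⟶ j} (g : i' ⟶ i)
    (h : Mono ((Over.pullback (D.map f)).map v)) : Mono ((Over.pullback (D.map (g ≫ f))).map v) := by
  let e := cmpNat (D.map_comp g f).symm
  rw [← NatIso.naturality_1 e v]
  exact inferInstanceAs (Mono (e.inv.app X ≫ (Over.pullback (D.map g)).map ((Over.pullback (D.map f)).map v) ≫ e.hom.app Y))

theorem map_eq_limit {X Y : Over (D.obj j)} {a b : X ⟶ Y} {i : I} {f : i ⟶ j}
    (h : (Over.pullback (D.map f)).map a = (Over.pullback (D.map f)).map b) :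
    (Over.pullback (c.π.app j)).map a = (Over.pullback (c.π.app j)).map b := by
  have e := cmpNat (c.w f)
  rw [← NatIso.naturality_1 e a, ← NatIso.naturality_1 e b, Functor.comp_map, Functor.comp_map, h]

theorem lift_limit {W X Y : Over (D.obj j)} {v : X ⟶ Y} {m : W ⟶ Y} {i : I} {f : i ⟶ j}
    (h : ∃ z : Red.bc (D.map f) W ⟶ Red.bc (D.map f) X,
      z ≫ (Over.pullback (D.map f)).map v = (Over.pullback (D.map f)).map m) :
    ∃ z : Red.bc (c.π.app j) W ⟶ Red.bc (c.π.app j) X,
      z ≫ (Over.pullback (c.π.app j)).map v = (Over.pullback (c.π.app j)).map m := by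
  obtain ⟨z, hz⟩ := h
  let e := cmpNat (c.w f)
  refine ⟨e.inv.app W ≫ (Over.pullback (c.π.app i)).map z ≫ e.hom.app X, ?_⟩
  exact transfer e ((Functor.map_comp _ _ _).symm.trans (congrArg _ hz))

theorem mono_limit {X Y : Over (D.obj j)} {v : X ⟶ Y} {i : I} {f : i ⟶ j}
    (h : Mono ((Over.pullback (D.map f)).map v)) : Mono ((Over.pullback (c.π.app j)).map v) := by
  let e := cmpNat (c.w f)
  rw [← NatIso.naturality_1 e v]
  exact inferInstanceAs (Mono (e.inv.app X ≫ (Over.pullback (c.π.app i)).map ((Over.pullback (D.map f)).map v) ≫ e.hom.app Y))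

include hc in
/-- A factorisation over the limit exists over a stage. -/
theorem exists_lift {W X Y : Over (D.obj j)} [QuasiCompact W.hom] [QuasiSeparated W.hom]
    [LocallyOfFinitePresentation X.hom] [LocallyOfFiniteType Y.hom] (v : X ⟶ Y) (m : W ⟶ Y)
    (h : ∃ z : Red.bc (c.π.app j) W ⟶ Red.bc (c.π.app j) X,
      z ≫ (Over.pullback (c.π.app j)).map v = (Over.pullback (c.π.app j)).map m) :
    ∃ (i : I) (f : i ⟶ j) (z : Red.bc (D.map f) W ⟶ Red.bc (D.map f) X),
      z ≫ (Over.pullback (D.map f)).map v = (Over.pullback (D.map f)).map m := by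
  obtain ⟨z, hz⟩ := h
  obtain ⟨i, f, a, ha⟩ := exists_hom hc z
  haveI : QuasiCompact (Red.bc (D.map f) W).hom := inferInstanceAs (QuasiCompact (pullback.snd W.hom _))
  haveI : QuasiSeparated (Red.bc (D.map f) W).hom := inferInstanceAs (QuasiSeparated (pullback.snd W.hom _))
  haveI : LocallyOfFiniteType (Red.bc (D.map f) Y).hom := inferInstanceAs (LocallyOfFiniteType (pullback.snd Y.hom _))
  have e : (Over.pullback (c.π.app i)).map (a ≫ (Over.pullback (D.map f)).map v) =
      (Over.pullback (c.π.app i)).map ((Over.pullback (D.map f)).map m) := by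
    refine bc_hom_ext (bc_hom_ext_fst ?_ ?_)
    · have hz' := congrArg (fun q => q.left ≫ pullback.fst Y.hom (c.π.app j)) hz
      simp only [Over.pullback, Over.comp_left, Over.homMk_left, Category.assoc, pullback.lift_fst] at hz'
      simp only [Over.pullback, Over.comp_left, Over.homMk_left, Category.assoc, pullback.lift_fst,
        pullback.lift_fst_assoc]
      rw [reassoc_of% ha]
      refine Eq.trans (congrArg ((cmp (c.w f) W).hom.left ≫ ·) hz') ?_
      rw [← Category.assoc, cmp_hom_fst, Category.assoc]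
      rfl
    · simp only [Over.pullback, Over.comp_left, Over.homMk_left, Category.assoc, pullback.lift_fst,
        pullback.lift_fst_assoc, pullback.lift_snd]
      exact congrArg (pullback.fst _ _ ≫ ·) (Over.w a)
  obtain ⟨i', g, hg⟩ := exists_eq hc _ _ e
  let w := cmpNat (D.map_comp g f).symm
  refine ⟨i', g ≫ f, w.inv.app W ≫ (Over.pullback (D.map g)).map a ≫ w.hom.app X, ?_⟩
  exact transfer w ((Functor.map_comp _ _ _).symm.trans hg)

include hc in
/-- Monomorphy over the limit holds over a stage. -/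
theorem exists_mono {X Y : Over (D.obj j)} [QuasiCompact X.hom] [QuasiSeparated X.hom] [LocallyOfFiniteType X.hom]
    [QuasiSeparated Y.hom] (v : X ⟶ Y) (h : Mono ((Over.pullback (c.π.app j)).map v)) :
    ∃ (i : I) (f : i ⟶ j), Mono ((Over.pullback (D.map f)).map v) := by
  let p₁ := pullback.fst v v
  let p₂ := pullback.snd v v
  have sq := (IsPullback.of_hasPullback v v).map (Over.forget (D.obj j))
  haveI : QuasiCompact v.left := by
    have : QuasiCompact (v.left ≫ Y.hom) := by rw [Over.w v]; infer_instance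
    exact QuasiCompact.of_comp _ Y.hom
  haveI : QuasiSeparated v.left := by
    have : QuasiSeparated (v.left ≫ Y.hom) := by rw [Over.w v]; infer_instance
    exact QuasiSeparated.of_comp _ Y.hom
  haveI : QuasiCompact p₁.left := MorphismProperty.of_isPullback (P := @QuasiCompact) sq.flip ‹_›
  haveI : QuasiSeparated p₁.left := MorphismProperty.of_isPullback (P := @QuasiSeparated) sq.flip ‹_›
  haveI : QuasiCompact (pullback v v).hom := by rw [← Over.w p₁]; infer_instance
  haveI : QuasiSeparated (pullback v v).hom := by rw [← Over.w p₁]; infer_instance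
  have e : (Over.pullback (c.π.app j)).map p₁ = (Over.pullback (c.π.app j)).map p₂ := by
    rw [← cancel_mono ((Over.pullback (c.π.app j)).map v), ← Functor.map_comp, ← Functor.map_comp, pullback.condition]
  obtain ⟨i, f, hf⟩ := exists_eq hc p₁ p₂ e
  refine ⟨i, f, ⟨fun {T} a b hab => ?_⟩⟩
  have sq' := (IsPullback.of_hasPullback v v).map (Over.pullback (D.map f))
  calc a = sq'.lift a b hab ≫ (Over.pullback (D.map f)).map p₁ := (sq'.lift_fst a b hab).symm
    _ = sq'.lift a b hab ≫ (Over.pullback (D.map f)).map p₂ := congrArg (sq'.lift a b hab ≫ ·) hf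
    _ = b := sq'.lift_snd a b hab

end Limit

end Groth.Agent.GrpLim26
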