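import Groth.Agent.GrpLim26.Descent
import Groth.Agent.SGA3UnitSec.KernelPair
import Groth.Agent.H8Lim.FlatDescent
import Groth.Agent.EGA43.Limit.Properties
import Groth.Agent.AlgSpLib.FppfSource
import Groth.Agent.Et18.Descent
import Groth.Agent.S5939

/-!
# Representability of quotients along limits
-/

set_option autoImplicit false
set_option linter.style.haveILetI false
set_option backward.isDefEq.respectTransparency.types false
universe u

namespace Groth.Agent.GrpLim26
open CategoryTheory CategoryTheory.Limits MonoidalCategory CartesianMonoidalCategory MonObj GrpObj AlgebraicGeometry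

variable {S S' : Scheme.{u}}

/-- The quotient of `G` by the right action of `H` through `u` is representable. -/
def HasQuot {S : Scheme.{u}} {G H : Over S} [GrpObj G] (u : H ⟶ G) : Prop :=
  ∃ (Q : Over S) (p : G ⟶ Q), Flat p.left ∧ Surjective p.left ∧ LocallyOfFinitePresentation p.left ∧
    IsPullback ((G ◁ u) ≫ μ[G]) (fst G H) p p

theorem HasQuot.of_iso {G G' H H' : Over S} [GrpObj G] [GrpObj G'] (εG : G ≅ G') [IsMonHom εG.hom] (εH : H ≅ H')
    {u : H ⟶ G} {u' : H' ⟶ G'} (hu : u ≫ εG.hom = εH.hom ≫ u') (h : HasQuot u) : HasQuot u' := by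
  obtain ⟨Q, p, h1, h2, h3, sq⟩ := h
  haveI : IsIso εG.inv.left := inferInstanceAs (IsIso ((Over.forget S).map εG.inv))
  refine ⟨Q, εG.inv ≫ p, inferInstanceAs (Flat (εG.inv.left ≫ p.left)), inferInstanceAs (Surjective (εG.inv.left ≫ p.left)),
    inferInstanceAs (LocallyOfFinitePresentation (εG.inv.left ≫ p.left)), ?_⟩
  refine IsPullback.of_iso sq (MonoidalCategory.tensorIso εG εH) εG εG (Iso.refl Q) ?_ ?_ (by simp) (by simp)
  · simp only [MonoidalCategory.tensorIso_hom, Category.assoc, IsMonHom.mul_hom]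
    rw [← id_tensorHom, tensorHom_comp_tensorHom_assoc, ← id_tensorHom, tensorHom_comp_tensorHom_assoc, hu]
    simp
  · simp

/-- The square of the action after base change. -/
theorem isPullback_act_iff (g : S' ⟶ S) {G H : Over S} [GrpObj G] (u : H ⟶ G) {Q : Over S'} (p : Red.bc g G ⟶ Q) :
    IsPullback ((Red.bc g G ◁ (Over.pullback g).map u) ≫ μ[Red.bc g G]) (fst (Red.bc g G) (Red.bc g H)) p p ↔
      IsPullback ((Over.pullback g).map ((G ◁ u) ≫ μ[G])) ((Over.pullback g).map (fst G H)) p p := by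
  let F := Over.pullback g
  let e := asIso (Functor.LaxMonoidal.μ F G H)
  have h1 : (Red.bc g G ◁ F.map u) ≫ μ[Red.bc g G] = e.hom ≫ F.map ((G ◁ u) ≫ μ[G]) := by
    show (F.obj G ◁ F.map u) ≫ Functor.LaxMonoidal.μ F G G ≫ F.map μ[G] = _
    rw [Functor.LaxMonoidal.μ_natural_right_assoc, ← F.map_comp]
    rfl
  have h2 : fst (Red.bc g G) (Red.bc g H) = e.hom ≫ F.map (fst G H) := (Functor.Monoidal.μ_fst F G H).symm
  rw [h1, h2]
  exact ⟨fun h => IsPullback.of_iso h e (Iso.refl _) (Iso.refl _) (Iso.refl _) (by simp; rfl) (by simp; rfl) (by simp) (by simp),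
    fun h => IsPullback.of_iso h e.symm (Iso.refl _) (Iso.refl _) (Iso.refl _) (by simp [F]) (by simp [F]) (by simp) (by simp)⟩

theorem HasQuot.bc (g : S' ⟶ S) {G H : Over S} [GrpObj G] {u : H ⟶ G} (h : HasQuot u) :
    HasQuot ((Over.pullback g).map u : Red.bc g H ⟶ Red.bc g G) := by
  obtain ⟨Q, p, h1, h2, h3, sq⟩ := h
  have hp := SGA3UnitSec.isPullback_map_left g p
  exact ⟨Red.bc g Q, (Over.pullback g).map p, MorphismProperty.of_isPullback (P := @Flat) hp h1,
    MorphismProperty.of_isPullback (P := @Surjective) hp h2,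
    MorphismProperty.of_isPullback (P := @LocallyOfFinitePresentation) hp h3,
    (isPullback_act_iff g u _).2 (sq.map (Over.pullback g))⟩

/-- A quotient of finitely presented group schemes is finitely presented. -/
theorem fp_quot {G H Q : Over S} [LocallyOfFinitePresentation G.hom] [QuasiCompact G.hom] [QuasiSeparated G.hom]
    [QuasiCompact H.hom] (p : G ⟶ Q) [Flat p.left] [Surjective p.left] [LocallyOfFinitePresentation p.left]
    {a : G ⊗ H ⟶ G} (sq : IsPullback a (fst G H) p p) :
    LocallyOfFinitePresentation Q.hom ∧ QuasiCompact Q.hom ∧ QuasiSeparated Q.hom := by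
  haveI : LocallyOfFinitePresentation (p.left ≫ Q.hom) := by rw [Over.w p]; infer_instance
  haveI : QuasiCompact (p.left ≫ Q.hom) := by rw [Over.w p]; infer_instance
  haveI : QuasiSeparated (p.left ≫ Q.hom) := by rw [Over.w p]; infer_instance
  haveI : QuasiCompact p.left := by
    haveI := Et18.descends_quasiCompact.{u}
    refine MorphismProperty.of_isPullback_of_descendsAlong (P := @QuasiCompact)
      (Q := @Surjective ⊓ @Flat ⊓ @LocallyOfFinitePresentation) (sq.map (Over.forget S)).flip ⟨⟨‹_›, ‹_›⟩, ‹_›⟩ ?_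
    show QuasiCompact (pullback.fst G.hom H.hom)
    infer_instance
  exact ⟨AlgSpLib.lfp_of_comp_fppf p.left Q.hom inferInstance, S5939.result p.left Q.hom⟩

section Limit
variable {I : Type u} [SmallCategory I] [IsCofiltered I] {D : I ⥤ Scheme.{u}} {c : Cone D}
  [∀ (i i' : I) (f : i ⟶ i'), IsAffineHom (D.map f)] [∀ i, CompactSpace (D.obj i)] [∀ i, QuasiSeparatedSpace (D.obj i)]
  (hc : IsLimit c)

/-- From squares at a stage to the morphism between base changes. -/
theorem prop_map_left {P : MorphismProperty Scheme.{u}} [P.IsStableUnderBaseChange] {i k : I} (g : k ⟶ i)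
    {X Y : Over (D.obj i)} (p : X ⟶ Y) {Xi Yi : Scheme.{u}} {fi : Xi ⟶ Yi} {gi : Yi ⟶ D.obj k} {pY : Yi ⟶ Y.left}
    {pX : Xi ⟶ X.left} (hY : IsPullback pY gi Y.hom (D.map g)) (hX : IsPullback pX fi p.left pY) (h : P fi) :
    P ((Over.pullback (D.map g)).map p).left := by
  let e : pullback Y.hom (D.map g) ⟶ Yi := hY.lift (pullback.fst _ _) (pullback.snd _ _) pullback.condition
  have sq := SGA3UnitSec.isPullback_map_left (D.map g) p
  have hw : pullback.fst X.hom (D.map g) ≫ p.left = (((Over.pullback (D.map g)).map p).left ≫ e) ≫ pY := by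
    rw [Category.assoc, hY.lift_fst]; exact sq.w
  exact MorphismProperty.of_isPullback
    (IsPullback.of_right (by rw [hX.lift_fst, hY.lift_fst]; exact sq) (hX.lift_snd _ _ hw) hX) h

theorem prop_later {P : MorphismProperty Scheme.{u}} [P.IsStableUnderBaseChange] [P.RespectsIso] {i k k' : I} {g : k ⟶ i}
    (r : k' ⟶ k) {X Y : Over (D.obj i)} {p : X ⟶ Y} (h : P ((Over.pullback (D.map g)).map p).left) :
    P ((Over.pullback (D.map (r ≫ g))).map p).left := by
  let e := cmpNat (D.map_comp r g).symm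
  have h' := MorphismProperty.of_isPullback (P := P)
    (SGA3UnitSec.isPullback_map_left (D.map r) ((Over.pullback (D.map g)).map p)) h
  rw [← NatIso.naturality_1 e p, Over.comp_left, Over.comp_left]
  haveI : IsIso (e.inv.app X).left := inferInstanceAs (IsIso ((Over.forget _).map (e.inv.app X)))
  haveI : IsIso (e.hom.app Y).left := inferInstanceAs (IsIso ((Over.forget _).map (e.hom.app Y)))
  rw [MorphismProperty.cancel_left_of_respectsIso P, MorphismProperty.cancel_right_of_respectsIso P]
  exact h'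

include hc in
theorem exists_flat_surjective {i : I} {X Y : Over (D.obj i)} [LocallyOfFinitePresentation X.hom] [QuasiCompact X.hom]
    [QuasiSeparated X.hom] [LocallyOfFinitePresentation Y.hom] [QuasiCompact Y.hom] [QuasiSeparated Y.hom] (p : X ⟶ Y)
    (h1 : Flat ((Over.pullback (c.π.app i)).map p).left) (h2 : Surjective ((Over.pullback (c.π.app i)).map p).left) :
    ∃ (k : I) (g : k ⟶ i), Flat ((Over.pullback (D.map g)).map p).left ∧
      Surjective ((Over.pullback (D.map g)).map p).left := by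
  haveI : ∀ {i i' : I} (f : i ⟶ i'), IsAffineHom (D.map f) := fun {i i'} f => inferInstance
  haveI : LocallyOfFinitePresentation (p.left ≫ Y.hom) := by rw [Over.w p]; infer_instance
  haveI : QuasiCompact (p.left ≫ Y.hom) := by rw [Over.w p]; infer_instance
  haveI : QuasiSeparated (p.left ≫ Y.hom) := by rw [Over.w p]; infer_instance
  haveI := EGA43.Limit.locallyOfFinitePresentation_of_comp p.left Y.hom
  haveI : QuasiCompact p.left := QuasiCompact.of_comp p.left Y.hom
  haveI : QuasiSeparated p.left := QuasiSeparated.of_comp p.left Y.hom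
  haveI : CompactSpace X.left := QuasiCompact.compactSpace_of_compactSpace X.hom
  have hY := IsPullback.of_hasPullback Y.hom (c.π.app i)
  have hX := SGA3UnitSec.isPullback_map_left (c.π.app i) p
  obtain ⟨k₁, g₁, _, _, _, _, _, _, a₁, b₁, c₁⟩ :=
    LimSmooth.exists_stage hc hY hX H8Lim.affineSpreads_flat (fun _ _ ↦ inferInstance) h1
  obtain ⟨k₂, g₂, _, _, _, _, _, _, a₂, b₂, c₂⟩ :=
    EGA43.Limit.Descends.stage_exists EGA43.Limit.descends_surjective hc p.left Y.hom inferInstance hY hX h2
  have d₁ := prop_map_left g₁ p a₁ b₁ c₁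
  have d₂ := prop_map_left g₂ p a₂ b₂ c₂
  obtain ⟨k, r₁, r₂, hr⟩ := IsCofiltered.cospan g₁ g₂
  refine ⟨k, r₁ ≫ g₁, prop_later r₁ d₁, ?_⟩
  rw [hr]
  exact prop_later r₂ d₂

include hc in
/-- A square which is cartesian over the limit and commutes at a stage is cartesian at a later stage. -/
theorem exists_isPullback {i : I} {W G X : Over (D.obj i)} [LocallyOfFinitePresentation W.hom] [QuasiCompact W.hom]
    [QuasiSeparated W.hom] [LocallyOfFinitePresentation G.hom] [QuasiCompact G.hom] [QuasiSeparated G.hom]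
    [LocallyOfFinitePresentation X.hom] [QuasiCompact X.hom] [QuasiSeparated X.hom] (a b : W ⟶ G) (p : G ⟶ X)
    (w : a ≫ p = b ≫ p)
    (h : IsPullback ((Over.pullback (c.π.app i)).map a) ((Over.pullback (c.π.app i)).map b)
      ((Over.pullback (c.π.app i)).map p) ((Over.pullback (c.π.app i)).map p)) :
    ∃ (k : I) (g : k ⟶ i), IsPullback ((Over.pullback (D.map g)).map a) ((Over.pullback (D.map g)).map b)
      ((Over.pullback (D.map g)).map p) ((Over.pullback (D.map g)).map p) := by
  let P := pullback p p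
  have sqP : IsPullback (pullback.fst p p) (pullback.snd p p) p p := IsPullback.of_hasPullback p p
  let c₀ : W ⟶ P := pullback.lift a b w
  let Φ := Over.pullback (c.π.app i)
  have sqL := (sqP.map (Over.forget (D.obj i)))
  haveI : LocallyOfFinitePresentation (p.left ≫ X.hom) := by rw [Over.w p]; infer_instance
  haveI : QuasiCompact (p.left ≫ X.hom) := by rw [Over.w p]; infer_instance
  haveI : QuasiSeparated (p.left ≫ X.hom) := by rw [Over.w p]; infer_instance
  haveI := EGA43.Limit.locallyOfFinitePresentation_of_comp p.left X.hom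
  haveI : QuasiCompact p.left := QuasiCompact.of_comp p.left X.hom
  haveI : QuasiSeparated p.left := QuasiSeparated.of_comp p.left X.hom
  haveI : LocallyOfFinitePresentation (pullback.fst p p).left :=
    MorphismProperty.of_isPullback (P := @LocallyOfFinitePresentation) sqL.flip ‹_›
  haveI : QuasiCompact (pullback.fst p p).left := MorphismProperty.of_isPullback (P := @QuasiCompact) sqL.flip ‹_›
  haveI : QuasiSeparated (pullback.fst p p).left := MorphismProperty.of_isPullback (P := @QuasiSeparated) sqL.flip ‹_›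
  haveI : LocallyOfFinitePresentation P.hom := by rw [← Over.w (pullback.fst p p)]; infer_instance
  haveI : QuasiCompact P.hom := by rw [← Over.w (pullback.fst p p)]; infer_instance
  haveI : QuasiSeparated P.hom := by rw [← Over.w (pullback.fst p p)]; infer_instance
  have hc₀ : Φ.map c₀ = (h.isoIsPullback _ _ (sqP.map Φ)).hom := by
    apply (sqP.map Φ).hom_ext
    · rw [← Φ.map_comp, pullback.lift_fst, IsPullback.isoIsPullback_hom_fst]
    · rw [← Φ.map_comp, pullback.lift_snd, IsPullback.isoIsPullback_hom_snd]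
  haveI : IsIso (Φ.map c₀) := by rw [hc₀]; infer_instance
  obtain ⟨k₁, g₁, hm⟩ := exists_mono hc c₀ (inferInstanceAs (Mono (Φ.map c₀)))
  obtain ⟨k₂, g₂, hz⟩ := exists_lift hc c₀ (𝟙 P) ⟨CategoryTheory.inv (Φ.map c₀), by
    rw [CategoryTheory.Functor.map_id]; exact IsIso.inv_hom_id _⟩
  obtain ⟨k, r₁, r₂, hr⟩ := IsCofiltered.cospan g₁ g₂
  let Θ := Over.pullback (D.map (r₁ ≫ g₁))
  haveI : Mono (Θ.map c₀) := mono_mono r₁ hm
  obtain ⟨z, hz'⟩ : ∃ z, z ≫ Θ.map c₀ = Θ.map (𝟙 P) := by
    show ∃ z, z ≫ (Over.pullback (D.map (r₁ ≫ g₁))).map c₀ = (Over.pullback (D.map (r₁ ≫ g₁))).map (𝟙 P)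
    rw [hr]; exact lift_mono r₂ hz
  haveI : IsSplitEpi (Θ.map c₀) := ⟨⟨z, hz'.trans (Θ.map_id _)⟩⟩
  haveI : IsIso (Θ.map c₀) := isIso_of_mono_of_isSplitEpi _
  refine ⟨k, r₁ ≫ g₁, IsPullback.of_iso (sqP.map Θ) (asIso (Θ.map c₀)).symm (Iso.refl _) (Iso.refl _) (Iso.refl _) ?_ ?_
    (by simp [Θ]) (by simp [Θ])⟩
  · simp [Θ, IsIso.eq_inv_comp, ← Functor.map_comp, c₀, pullback.lift_fst]
  · simp [Θ, IsIso.eq_inv_comp, ← Functor.map_comp, c₀, pullback.lift_snd]

end Limit

/-- Quotient data are transported along isomorphisms. -/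
theorem quot_transport {G G' H H' Q Q' : Over S} [GrpObj G] [GrpObj G'] (εG : G ≅ G') [IsMonHom εG.hom] (εH : H ≅ H')
    (εQ : Q ≅ Q') {u : H ⟶ G} {u' : H' ⟶ G'} (hu : u ≫ εG.hom = εH.hom ≫ u') {p : G ⟶ Q} (h1 : Flat p.left)
    (h2 : Surjective p.left) (sq : IsPullback ((G ◁ u) ≫ μ[G]) (fst G H) p p) {p' : G' ⟶ Q'}
    (hp : p ≫ εQ.hom = εG.hom ≫ p') :
    Flat p'.left ∧ Surjective p'.left ∧ IsPullback ((G' ◁ u') ≫ μ[G']) (fst G' H') p' p' := by
  obtain rfl : εG.inv ≫ p ≫ εQ.hom = p' := by rw [hp, Iso.inv_hom_id_assoc]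
  haveI : IsIso εG.inv.left := inferInstanceAs (IsIso ((Over.forget S).map εG.inv))
  haveI : IsIso εQ.hom.left := inferInstanceAs (IsIso ((Over.forget S).map εQ.hom))
  refine ⟨inferInstanceAs (Flat (εG.inv.left ≫ p.left ≫ εQ.hom.left)),
    inferInstanceAs (Surjective (εG.inv.left ≫ p.left ≫ εQ.hom.left)), ?_⟩
  refine IsPullback.of_iso sq (MonoidalCategory.tensorIso εG εH) εG εG εQ ?_ ?_ (by simp) (by simp)
  · simp only [MonoidalCategory.tensorIso_hom, Category.assoc, IsMonHom.mul_hom]
    rw [← id_tensorHom, tensorHom_comp_tensorHom_assoc, ← id_tensorHom, tensorHom_comp_tensorHom_assoc, hu]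
    simp
  · simp

/-- Cartesian squares are transported along natural isomorphisms. -/
theorem isPullback_natIso {A B : Type*} [Category A] [Category B] {F F' : A ⥤ B} (e : F ≅ F') {W X Y Z : A} {a : W ⟶ X}
    {b : W ⟶ Y} {f : X ⟶ Z} {g : Y ⟶ Z} (h : IsPullback (F.map a) (F.map b) (F.map f) (F.map g)) :
    IsPullback (F'.map a) (F'.map b) (F'.map f) (F'.map g) :=
  IsPullback.of_iso h (e.app W) (e.app X) (e.app Y) (e.app Z) (by simp) (by simp) (by simp) (by simp)

/-- Morphism properties are transported along natural isomorphisms. -/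
theorem prop_natIso {P : MorphismProperty Scheme.{u}} [P.RespectsIso] {A : Type*} [Category A] {F F' : A ⥤ Over S'}
    (e : F ≅ F') {X Y : A} {f : X ⟶ Y} (h : P (F.map f).left) : P (F'.map f).left := by
  rw [← NatIso.naturality_1 e f, Over.comp_left, Over.comp_left]
  haveI : IsIso (e.inv.app X).left := inferInstanceAs (IsIso ((Over.forget _).map (e.inv.app X)))
  haveI : IsIso (e.hom.app Y).left := inferInstanceAs (IsIso ((Over.forget _).map (e.hom.app Y)))
  rw [MorphismProperty.cancel_left_of_respectsIso P, MorphismProperty.cancel_right_of_respectsIso P]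
  exact h

end Groth.Agent.GrpLim26
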