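import Groth.Prelude.Def_AlgGrp
import Groth.Prelude.Def_Red
import Groth.Agent.H8Lim.HomDescent
import Mathlib.CategoryTheory.Monoidal.Cartesian.Over

/-!
# Base change of group schemes: points, composition, limits
-/

set_option autoImplicit false
set_option linter.style.haveILetI false
set_option backward.isDefEq.respectTransparency.types false
universe u

namespace Groth.Agent.GrpLim26
open CategoryTheory CategoryTheory.Limits MonoidalCategory CartesianMonoidalCategory MonObj GrpObj AlgebraicGeometry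

variable {S S' S'' : Scheme.{u}}

/-- A point of a base change as a point of the original object. -/
noncomputable def tr {g : S' ⟶ S} {G : Over S} {T : Over S'} {t : T.left ⟶ S} (ht : T.hom ≫ g = t)
    (a : T ⟶ Red.bc g G) : Over.mk t ⟶ G :=
  Over.homMk (a.left ≫ pullback.fst G.hom g) (by
    subst ht
    show (a.left ≫ pullback.fst G.hom g) ≫ G.hom = T.hom ≫ g
    rw [Category.assoc, pullback.condition, ← Category.assoc]
    exact congrArg (· ≫ g) (Over.w a))

theorem tr_left {g : S' ⟶ S} {G : Over S} {T : Over S'} {t : T.left ⟶ S} (ht : T.hom ≫ g = t)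
    (a : T ⟶ Red.bc g G) : (tr ht a).left = a.left ≫ pullback.fst G.hom g := rfl

/-- Morphisms into a base change are determined by their first component. -/
theorem bc_hom_ext {g : S' ⟶ S} {G : Over S} {T : Over S'} {a b : T ⟶ Red.bc g G}
    (h : a.left ≫ pullback.fst G.hom g = b.left ≫ pullback.fst G.hom g) : a = b := by
  apply Over.OverMorphism.ext
  refine pullback.hom_ext h ?_
  exact (Over.w a).trans (Over.w b).symm

/-- Extensionality into the total space of a base change. -/
theorem bc_hom_ext_fst {g : S' ⟶ S} {G : Over S} {T : Scheme.{u}} {a b : T ⟶ (Red.bc g G).left}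
    (h1 : a ≫ pullback.fst G.hom g = b ≫ pullback.fst G.hom g) (h2 : a ≫ pullback.snd G.hom g = b ≫ pullback.snd G.hom g) :
    a = b := pullback.hom_ext h1 h2

theorem tr_mul {g : S' ⟶ S} {G : Over S} [GrpObj G] {T : Over S'} {t : T.left ⟶ S} (ht : T.hom ≫ g = t)
    (a b : T ⟶ Red.bc g G) : tr ht (a * b) = tr ht a * tr ht b := by
  let F := Over.pullback g
  have key : ∀ {X Y : Over S} (m : X ⟶ Y) (z : T ⟶ Red.bc g X), tr ht (z ≫ F.map m) = tr ht z ≫ m := by
    intro X Y m z
    apply Over.OverMorphism.ext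
    show (z.left ≫ (F.map m).left) ≫ pullback.fst Y.hom g = (z.left ≫ pullback.fst X.hom g) ≫ m.left
    rw [Category.assoc, Category.assoc]
    congr 1
    exact pullback.lift_fst _ _ _
  have h1 : a * b = (lift a b ≫ Functor.LaxMonoidal.μ F G G) ≫ F.map μ[G] := (Category.assoc _ _ _).symm
  rw [h1, key, Hom.mul_def]
  congr 1
  apply CartesianMonoidalCategory.hom_ext
  · rw [lift_fst, ← key, Category.assoc, Functor.Monoidal.μ_fst, lift_fst]
  · rw [lift_snd, ← key, Category.assoc, Functor.Monoidal.μ_snd, lift_snd]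

/-- A map of group objects respecting products is a homomorphism. -/
theorem isMonHom_of_mul {C : Type*} [Category C] [CartesianMonoidalCategory C] {G H : C} [GrpObj G] [GrpObj H]
    (u : G ⟶ H) (h : ∀ (T : C) (a b : T ⟶ G), (a * b) ≫ u = (a ≫ u) * (b ≫ u)) : IsMonHom u where
  one_hom := by
    have h1 : ((1 : 𝟙_ C ⟶ G) ≫ u) * ((1 : 𝟙_ C ⟶ G) ≫ u) = (1 : 𝟙_ C ⟶ G) ≫ u := by
      rw [← h, _root_.one_mul]
    have h2 : (1 : 𝟙_ C ⟶ G) ≫ u = 1 := mul_eq_left.1 h1
    simpa [Hom.one_def, toUnit_unique (toUnit (𝟙_ C)) (𝟙 _)] using h2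
  mul_hom := by
    have h1 := h (G ⊗ G) (fst G G) (snd G G)
    rw [Hom.mul_def, Hom.mul_def, lift_fst_snd, Category.id_comp] at h1
    rw [h1, ← lift_fst_comp_snd_comp]

theorem isMonHom_eqToIso {G : Over S} [GrpObj G] {p q : S' ⟶ S} (h : p = q) :
    IsMonHom (eqToIso (congrArg (fun g => Red.bc g G) h)).hom := by
  subst h; exact inferInstanceAs (IsMonHom (𝟙 (Red.bc p G)))

theorem eqToIso_fst {G : Over S} {p q : S' ⟶ S} (h : p = q) :
    (eqToIso (congrArg (fun g => Red.bc g G) h)).hom.left ≫ pullback.fst G.hom q = pullback.fst G.hom p := by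
  subst h; exact Category.id_comp _

theorem pullbackComp_hom_fst {X Y Z : Scheme.{u}} (f : X ⟶ Y) (g : Y ⟶ Z) (V : Over Z) :
    ((Over.pullbackComp f g).hom.app V).left ≫ pullback.fst _ f ≫ pullback.fst V.hom g =
      pullback.fst V.hom (f ≫ g) := by
  simp [Over.pullbackComp, conjugateIsoEquiv, conjugateEquiv, mateEquiv, Over.mapPullbackAdj, Over.mapComp,
    pullback.lift_fst_assoc, pullback.lift_fst]

/-- The composition isomorphism of base changes. -/
noncomputable abbrev pc (f : S'' ⟶ S') (g : S' ⟶ S) (G : Over S) : Red.bc (f ≫ g) G ≅ Red.bc f (Red.bc g G) :=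
  (Over.pullbackComp f g).app G

instance isMonHom_pullbackComp (f : S'' ⟶ S') (g : S' ⟶ S) (G : Over S) [GrpObj G] :
    IsMonHom (pc f g G).hom := by
  refine isMonHom_of_mul _ fun T a b => bc_hom_ext ?_
  let e : Red.bc (f ≫ g) G ⟶ Red.bc f (Red.bc g G) := ((Over.pullbackComp f g).app G).hom
  let t : T.left ⟶ S := T.hom ≫ f ≫ g
  have h1 : (T.hom ≫ f) ≫ g = t := Category.assoc _ _ _
  have key : ∀ c : T ⟶ Red.bc (f ≫ g) G, tr h1 (tr rfl (c ≫ e) : Over.mk (T.hom ≫ f) ⟶ Red.bc g G) = tr rfl c := by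
    intro c
    apply Over.OverMorphism.ext
    show ((c.left ≫ e.left) ≫ pullback.fst _ f) ≫ pullback.fst G.hom g = c.left ≫ pullback.fst G.hom (f ≫ g)
    rw [Category.assoc, Category.assoc]
    exact congrArg (c.left ≫ ·) (pullbackComp_hom_fst f g G)
  have h2 : tr h1 (tr rfl ((a * b) ≫ e) : Over.mk (T.hom ≫ f) ⟶ Red.bc g G) =
      tr h1 (tr rfl ((a ≫ e) * (b ≫ e)) : Over.mk (T.hom ≫ f) ⟶ Red.bc g G) := by
    rw [key, tr_mul, tr_mul, tr_mul, key, key]
  exact congrArg (fun z => z.left) (bc_hom_ext (a := (tr rfl ((a * b) ≫ e) : Over.mk (T.hom ≫ f) ⟶ Red.bc g G))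
    (congrArg (fun z => z.left) h2))

/-- Comparison of an iterated base change with a base change. -/
noncomputable def cmp {g : S'' ⟶ S'} {f : S' ⟶ S} {p : S'' ⟶ S} (h : g ≫ f = p) (G : Over S) :
    Red.bc g (Red.bc f G) ≅ Red.bc p G :=
  ((Over.pullbackComp g f).app G).symm ≪≫ eqToIso (congrArg (fun q => Red.bc q G) h)

section cmp
variable {g : S'' ⟶ S'} {f : S' ⟶ S} {p : S'' ⟶ S} (h : g ≫ f = p) (G : Over S)

@[reassoc (attr := simp)]
theorem cmp_hom_fst :
    (cmp h G).hom.left ≫ pullback.fst G.hom p = pullback.fst (Red.bc f G).hom g ≫ pullback.fst G.hom f := by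
  subst h
  have h1 : ((pc g f G).inv ≫ (pc g f G).hom).left = 𝟙 (Red.bc g (Red.bc f G)).left := by
    rw [Iso.inv_hom_id]; rfl
  rw [Over.comp_left] at h1
  show (((Over.pullbackComp g f).app G).inv.left ≫ 𝟙 _) ≫ _ = _
  rw [Category.comp_id, ← pullbackComp_hom_fst g f G, ← Category.assoc]
  exact (congrArg (· ≫ pullback.fst (Red.bc f G).hom g ≫ pullback.fst G.hom f) h1).trans (Category.id_comp _)

@[reassoc (attr := simp)]
theorem cmp_hom_snd : (cmp h G).hom.left ≫ pullback.snd G.hom p = pullback.snd (Red.bc f G).hom g :=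
  Over.w (cmp h G).hom

@[reassoc (attr := simp)]
theorem cmp_inv_fst_fst :
    (cmp h G).inv.left ≫ pullback.fst (Red.bc f G).hom g ≫ pullback.fst G.hom f = pullback.fst G.hom p := by
  rw [← cmp_hom_fst h G, ← Category.assoc, ← Over.comp_left, Iso.inv_hom_id]
  exact Category.id_comp _

@[reassoc (attr := simp)]
theorem cmp_inv_fst_snd :
    (cmp h G).inv.left ≫ pullback.fst (Red.bc f G).hom g ≫ pullback.snd G.hom f = pullback.snd G.hom p ≫ g := by
  have h1 : pullback.fst (Red.bc f G).hom g ≫ pullback.snd G.hom f = pullback.snd (Red.bc f G).hom g ≫ g :=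
    pullback.condition
  rw [h1, ← Category.assoc]
  exact congrArg (· ≫ g) (Over.w (cmp h G).inv)

instance isMonHom_cmp [GrpObj G] : IsMonHom (cmp h G).hom := by
  haveI := isMonHom_eqToIso (G := G) h
  haveI : IsMonHom (pc g f G).hom := isMonHom_pullbackComp g f G
  exact inferInstanceAs (IsMonHom ((pc g f G).inv ≫ (eqToIso (congrArg (fun q => Red.bc q G) h)).hom))

end cmp

/-- Multiplicativity after base change. -/
theorem map_mul_hom_iff (p : S' ⟶ S) {G H : Over S} [GrpObj G] [GrpObj H] (a : G ⟶ H) :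
    (Over.pullback p).map (μ[G] ≫ a) = (Over.pullback p).map ((a ⊗ₘ a) ≫ μ[H]) ↔
      μ[Red.bc p G] ≫ (Over.pullback p).map a =
        ((Over.pullback p).map a ⊗ₘ (Over.pullback p).map a) ≫ μ[Red.bc p H] := by
  let F := Over.pullback p
  have h1 : μ[Red.bc p G] = Functor.LaxMonoidal.μ F G G ≫ F.map μ[G] := rfl
  have h2 : μ[Red.bc p H] = Functor.LaxMonoidal.μ F H H ≫ F.map μ[H] := rfl
  rw [h1, h2, ← Category.assoc (F.map a ⊗ₘ F.map a), Functor.LaxMonoidal.μ_natural, Category.assoc, Category.assoc,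
    cancel_epi, ← Functor.map_comp, ← Functor.map_comp]

theorem isMonHom_map_of_eq (p : S' ⟶ S) {G H : Over S} [GrpObj G] [GrpObj H] (a : G ⟶ H)
    (e : (Over.pullback p).map (μ[G] ≫ a) = (Over.pullback p).map ((a ⊗ₘ a) ≫ μ[H])) :
    IsMonHom ((Over.pullback p).map a) := by
  have hm := (map_mul_hom_iff p a).1 e
  refine isMonHom_of_mul _ fun T x y => ?_
  rw [Hom.mul_def, Category.assoc, hm, ← Category.assoc, lift_map, Hom.mul_def]

theorem fp_tensor {G H : Over S} [LocallyOfFinitePresentation G.hom] [QuasiCompact G.hom] [QuasiSeparated G.hom]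
    [LocallyOfFinitePresentation H.hom] [QuasiCompact H.hom] [QuasiSeparated H.hom] :
    LocallyOfFinitePresentation (G ⊗ H).hom ∧ QuasiCompact (G ⊗ H).hom ∧ QuasiSeparated (G ⊗ H).hom := by
  have h : (G ⊗ H).hom = pullback.fst G.hom H.hom ≫ G.hom := rfl
  rw [h]
  exact ⟨inferInstance, inferInstance, inferInstance⟩

section Limit
variable {I : Type u} [SmallCategory I] [IsCofiltered I] {D : I ⥤ Scheme.{u}} {c : Cone D}
  [∀ (i i' : I) (f : i ⟶ i'), IsAffineHom (D.map f)] [∀ i, CompactSpace (D.obj i)] [∀ i, QuasiSeparatedSpace (D.obj i)]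
  (hc : IsLimit c)

include hc in
/-- Morphisms which agree over the limit agree over a stage. -/
theorem exists_eq {i : I} {X Y : Over (D.obj i)} [QuasiCompact X.hom] [QuasiSeparated X.hom] [LocallyOfFiniteType Y.hom]
    (a b : X ⟶ Y) (h : (Over.pullback (c.π.app i)).map a = (Over.pullback (c.π.app i)).map b) :
    ∃ (i' : I) (g : i' ⟶ i), (Over.pullback (D.map g)).map a = (Over.pullback (D.map g)).map b := by
  haveI : ∀ {i i' : I} (f : i ⟶ i'), IsAffineHom (D.map f) := fun {i i'} f => inferInstance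
  haveI : CompactSpace X.left := QuasiCompact.compactSpace_of_compactSpace X.hom
  haveI : QuasiSeparatedSpace X.left := quasiSeparatedSpace_of_quasiSeparated X.hom
  have h1 : pullback.fst X.hom (c.π.app i) ≫ a.left = pullback.fst X.hom (c.π.app i) ≫ b.left := by
    have := congrArg (fun z => z.left ≫ pullback.fst Y.hom (c.π.app i)) h
    simp only [Over.pullback, Over.homMk_left, pullback.lift_fst] at this
    exact this
  obtain ⟨j, φ, e⟩ := H8Lim.exists_stage_eq hc (IsPullback.of_hasPullback X.hom (c.π.app i)) a.left b.left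
    (Over.w a) (Over.w b) h1
  refine ⟨j, φ, bc_hom_ext ?_⟩
  show pullback.lift _ _ _ ≫ pullback.fst Y.hom _ = pullback.lift _ _ _ ≫ pullback.fst Y.hom _
  rw [pullback.lift_fst, pullback.lift_fst]
  exact e

include hc in
/-- A morphism over the limit comes from a stage. -/
theorem exists_hom {j : I} {X Y : Over (D.obj j)} [QuasiCompact X.hom] [QuasiSeparated X.hom]
    [LocallyOfFinitePresentation Y.hom] (u : Red.bc (c.π.app j) X ⟶ Red.bc (c.π.app j) Y) :
    ∃ (i : I) (f : i ⟶ j) (a : Red.bc (D.map f) X ⟶ Red.bc (D.map f) Y),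
      pullback.fst (Red.bc (D.map f) X).hom (c.π.app i) ≫ a.left ≫ pullback.fst Y.hom (D.map f) =
        (cmp (c.w f) X).hom.left ≫ u.left ≫ pullback.fst Y.hom (c.π.app j) := by
  haveI : ∀ {i i' : I} (f : i ⟶ i'), IsAffineHom (D.map f) := fun {i i'} f => inferInstance
  haveI : CompactSpace X.left := QuasiCompact.compactSpace_of_compactSpace X.hom
  haveI : QuasiSeparatedSpace X.left := quasiSeparatedSpace_of_quasiSeparated X.hom
  obtain ⟨i, f, g, s, hg, hs1, hs2, hs3⟩ := H8Lim.exists_stage_hom hc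
    (IsPullback.of_hasPullback X.hom (c.π.app j)) (u.left ≫ pullback.fst Y.hom (c.π.app j)) (by
      have hw : u.left ≫ pullback.snd Y.hom (c.π.app j) = pullback.snd X.hom (c.π.app j) := Over.w u
      rw [Category.assoc, pullback.condition, reassoc_of% hw, pullback.condition])
  refine ⟨i, f, Over.homMk (pullback.lift g (pullback.snd X.hom (D.map f)) (hg.trans pullback.condition))
    (pullback.lift_snd _ _ _), ?_⟩
  show pullback.fst _ _ ≫ pullback.lift g _ _ ≫ pullback.fst Y.hom (D.map f) = _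
  rw [pullback.lift_fst]
  show _ = (cmp (c.w f) X).hom.left ≫ (u.left ≫ pullback.fst Y.hom (c.π.app j))
  rw [← hs3, ← Category.assoc _ s g]
  congr 1
  refine pullback.hom_ext ?_ ?_
  · rw [Category.assoc, hs1, cmp_hom_fst]
  · rw [Category.assoc, hs2, cmp_hom_snd_assoc]
    exact pullback.condition

include hc in
/-- A homomorphism over the limit comes from a homomorphism over a stage. -/
theorem exists_grpHom {j : I} {G H : Over (D.obj j)} [GrpObj G] [GrpObj H]
    [LocallyOfFinitePresentation G.hom] [QuasiCompact G.hom] [QuasiSeparated G.hom]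
    [LocallyOfFinitePresentation H.hom] (u : Red.bc (c.π.app j) G ⟶ Red.bc (c.π.app j) H) [IsMonHom u] :
    ∃ (i : I) (f : i ⟶ j) (a : Red.bc (D.map f) G ⟶ Red.bc (D.map f) H), IsMonHom a ∧
      (Over.pullback (c.π.app i)).map a = (cmp (c.w f) G).hom ≫ u ≫ (cmp (c.w f) H).inv := by
  obtain ⟨i, f, a, ha⟩ := exists_hom hc u
  have hmap : (Over.pullback (c.π.app i)).map a = (cmp (c.w f) G).hom ≫ u ≫ (cmp (c.w f) H).inv := by
    refine bc_hom_ext ?_
    apply pullback.hom_ext
    · simp only [Over.pullback, Over.comp_left, Over.homMk_left, pullback.lift_fst, Category.assoc]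
      rw [ha, cmp_inv_fst_fst]
    · rw [Category.assoc, Category.assoc, Over.comp_left, Over.comp_left, Category.assoc, Category.assoc,
        cmp_inv_fst_snd]
      have hw : u.left ≫ pullback.snd H.hom (c.π.app j) = pullback.snd G.hom (c.π.app j) := Over.w u
      have ha' : a.left ≫ pullback.snd H.hom (D.map f) = pullback.snd G.hom (D.map f) := Over.w a
      rw [reassoc_of% hw, cmp_hom_snd_assoc]
      simp only [Over.pullback, Over.homMk_left, pullback.lift_fst_assoc, Category.assoc]
      rw [ha']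
      exact pullback.condition
  haveI : IsMonHom ((Over.pullback (c.π.app i)).map a) := by rw [hmap]; infer_instance
  haveI : LocallyOfFinitePresentation (Red.bc (D.map f) G).hom := inferInstanceAs (LocallyOfFinitePresentation (pullback.snd G.hom _))
  haveI : QuasiCompact (Red.bc (D.map f) G).hom := inferInstanceAs (QuasiCompact (pullback.snd G.hom _))
  haveI : QuasiSeparated (Red.bc (D.map f) G).hom := inferInstanceAs (QuasiSeparated (pullback.snd G.hom _))
  haveI : LocallyOfFiniteType (Red.bc (D.map f) H).hom := inferInstanceAs (LocallyOfFiniteType (pullback.snd H.hom _))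
  obtain ⟨-, _, _⟩ := fp_tensor (G := Red.bc (D.map f) G) (H := Red.bc (D.map f) G)
  obtain ⟨i', g, hg⟩ := exists_eq hc (μ[Red.bc (D.map f) G] ≫ a) ((a ⊗ₘ a) ≫ μ[Red.bc (D.map f) H])
    ((map_mul_hom_iff _ a).2 (IsMonHom.mul_hom _))
  haveI := isMonHom_map_of_eq (D.map g) a hg
  have hgf : D.map g ≫ D.map f = D.map (g ≫ f) := (D.map_comp g f).symm
  refine ⟨i', g ≫ f, (cmp hgf G).inv ≫ (Over.pullback (D.map g)).map a ≫ (cmp hgf H).hom, inferInstance, ?_⟩
  refine bc_hom_ext ?_
  apply pullback.hom_ext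
  · simp only [Over.pullback, Over.comp_left, Over.homMk_left, pullback.lift_fst, pullback.lift_fst_assoc, Category.assoc,
      cmp_hom_fst, cmp_inv_fst_fst]
    let m : (Red.bc (c.π.app i') (Red.bc (D.map (g ≫ f)) G)).left ⟶ (Red.bc (c.π.app i) (Red.bc (D.map f) G)).left :=
      pullback.lift (pullback.fst _ _ ≫ (cmp hgf G).inv.left ≫ pullback.fst _ _) (pullback.snd _ _) (by
        rw [Category.assoc, Category.assoc]
        show _ ≫ _ ≫ pullback.fst _ _ ≫ pullback.snd G.hom (D.map f) = _
        rw [cmp_inv_fst_snd, ← Category.assoc]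
        exact (congrArg (· ≫ D.map g) pullback.condition).trans ((Category.assoc _ _ _).trans (congrArg (pullback.snd _ _ ≫ ·) (c.w g))))
    have hm : (cmp (c.w (g ≫ f)) G).hom.left = m ≫ (cmp (c.w f) G).hom.left := by
      refine pullback.hom_ext ?_ ?_
      · simp [m, pullback.lift_fst_assoc]
        exact (congrArg (pullback.fst _ _ ≫ ·) (cmp_inv_fst_fst hgf G)).symm
      · simp [m, pullback.lift_snd]
    rw [hm, Category.assoc, ← ha, pullback.lift_fst_assoc, Category.assoc, Category.assoc]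
  · simp only [Over.pullback, Over.comp_left, Over.homMk_left, pullback.lift_fst, pullback.lift_fst_assoc, Category.assoc,
      cmp_hom_snd, cmp_inv_fst_snd]
    have hw : u.left ≫ pullback.snd H.hom (c.π.app j) = pullback.snd G.hom (c.π.app j) := Over.w u
    rw [reassoc_of% hw, cmp_hom_snd_assoc]
    show pullback.fst _ _ ≫ (cmp hgf G).inv.left ≫ pullback.lift _ _ _ ≫ pullback.snd _ _ = _
    rw [pullback.lift_snd]
    rw [show (cmp hgf G).inv.left ≫ pullback.snd (Red.bc (D.map f) G).hom (D.map g) = pullback.snd G.hom (D.map (g ≫ f)) from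
      Over.w (cmp hgf G).inv]
    exact pullback.condition

end Limit

end Groth.Agent.GrpLim26
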