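import Groth.Agent.GrpLim26.Normal
import Groth.Agent.H8Lim.SchemeDescent

/-!
# Group schemes of finite presentation over a limit come from a stage (EGA IV 8.8 for groups)
-/

set_option autoImplicit false
set_option linter.style.haveILetI false
set_option backward.isDefEq.respectTransparency.types false
universe u

namespace Groth.Agent.GrpLim26
open CategoryTheory CategoryTheory.Limits MonoidalCategory CartesianMonoidalCategory MonObj GrpObj AlgebraicGeometry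

@[reassoc]
theorem map_left_fst {S S' : Scheme.{u}} (p : S' ⟶ S) {X Y : Over S} (m : X ⟶ Y) :
    ((Over.pullback p).map m).left ≫ pullback.fst Y.hom p = pullback.fst X.hom p ≫ m.left :=
  pullback.lift_fst _ _ _

theorem cmp_natural {S S' S'' : Scheme.{u}} {g : S'' ⟶ S'} {f : S' ⟶ S} {p : S'' ⟶ S} (h : g ≫ f = p) {X Y : Over S}
    (m : X ⟶ Y) :
    (Over.pullback g).map ((Over.pullback f).map m) ≫ (cmp h Y).hom = (cmp h X).hom ≫ (Over.pullback p).map m := by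
  refine bc_hom_ext ?_
  calc (((Over.pullback g).map ((Over.pullback f).map m)) ≫ (cmp h Y).hom).left ≫ pullback.fst Y.hom p
      = ((Over.pullback g).map ((Over.pullback f).map m)).left ≫ pullback.fst (Red.bc f Y).hom g ≫ pullback.fst Y.hom f := by
        rw [Over.comp_left, Category.assoc, cmp_hom_fst]
    _ = pullback.fst (Red.bc f X).hom g ≫ pullback.fst X.hom f ≫ m.left := by
        rw [map_left_fst_assoc, map_left_fst]
    _ = ((cmp h X).hom ≫ (Over.pullback p).map m).left ≫ pullback.fst Y.hom p := by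
        rw [Over.comp_left, Category.assoc, map_left_fst, cmp_hom_fst_assoc]

/-- The monoid and group axioms from identities on points. -/
noncomputable abbrev grpObjOfPoints {C : Type*} [Category C] [CartesianMonoidalCategory C] {X : C} (m : X ⊗ X ⟶ X)
    (e : 𝟙_ C ⟶ X) (ν : X ⟶ X)
    (hassoc : ∀ {T : C} (a b c : T ⟶ X), lift (lift a b ≫ m) c ≫ m = lift a (lift b c ≫ m) ≫ m)
    (hone_mul : ∀ {T : C} (a : T ⟶ X), lift (toUnit T ≫ e) a ≫ m = a)
    (hmul_one : ∀ {T : C} (a : T ⟶ X), lift a (toUnit T ≫ e) ≫ m = a)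
    (hinv_mul : ∀ {T : C} (a : T ⟶ X), lift (a ≫ ν) a ≫ m = toUnit T ≫ e)
    (hmul_inv : ∀ {T : C} (a : T ⟶ X), lift a (a ≫ ν) ≫ m = toUnit T ≫ e) : GrpObj X where
  one := e
  mul := m
  one_mul := by
    have h1 : (λ_ X).inv = lift (toUnit X) (𝟙 X) := by ext <;> simp
    rw [← cancel_epi (λ_ X).inv, Iso.inv_hom_id, h1, lift_whiskerRight_assoc]
    exact hone_mul (𝟙 X)
  mul_one := by
    have h1 : (ρ_ X).inv = lift (𝟙 X) (toUnit X) := by ext <;> simp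
    rw [← cancel_epi (ρ_ X).inv, Iso.inv_hom_id, h1, lift_whiskerLeft_assoc]
    exact hmul_one (𝟙 X)
  mul_assoc := by
    have h1 : m ▷ X = lift (lift (fst (X ⊗ X) X ≫ fst X X) (fst (X ⊗ X) X ≫ snd X X) ≫ m) (snd (X ⊗ X) X) := by
      apply CartesianMonoidalCategory.hom_ext
      · rw [whiskerRight_fst, lift_fst, ← comp_lift, lift_fst_snd, Category.comp_id]
      · rw [whiskerRight_snd, lift_snd]
    have h2 : (α_ X X X).hom ≫ (X ◁ m) =
        lift (fst (X ⊗ X) X ≫ fst X X) (lift (fst (X ⊗ X) X ≫ snd X X) (snd (X ⊗ X) X) ≫ m) := by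
      apply CartesianMonoidalCategory.hom_ext
      · simp
      · rw [Category.assoc, whiskerLeft_snd, lift_snd, ← Category.assoc]
        congr 1
        apply CartesianMonoidalCategory.hom_ext <;> simp
    rw [← Category.assoc, h2, h1]
    exact hassoc _ _ _
  inv := ν
  left_inv := by simpa using hinv_mul (𝟙 X)
  right_inv := by simpa using hmul_inv (𝟙 X)

section Limit
/-- Two stable conditions satisfied over stages are satisfied over a common stage. -/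
theorem exists_and {I : Type*} [Category I] [IsCofiltered I] {i : I} {P Q : ∀ k, (k ⟶ i) → Prop}
    (hP : ∀ {k k'} (g : k' ⟶ k) (r : k ⟶ i), P k r → P k' (g ≫ r))
    (hQ : ∀ {k k'} (g : k' ⟶ k) (r : k ⟶ i), Q k r → Q k' (g ≫ r))
    (h₁ : ∃ k r, P k r) (h₂ : ∃ k r, Q k r) : ∃ k r, P k r ∧ Q k r := by
  obtain ⟨k₁, r₁, p⟩ := h₁
  obtain ⟨k₂, r₂, q⟩ := h₂
  obtain ⟨k, g₁, g₂, hg⟩ := IsCofiltered.cospan r₁ r₂
  exact ⟨k, g₁ ≫ r₁, hP g₁ r₁ p, hg ▸ hQ g₂ r₂ q⟩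

variable {I : Type u} [SmallCategory I] [IsCofiltered I] {D : I ⥤ Scheme.{u}} {c : Cone D}
  [∀ (i i' : I) (f : i ⟶ i'), IsAffineHom (D.map f)] [∀ i, CompactSpace (D.obj i)] [∀ i, QuasiSeparatedSpace (D.obj i)]
  (hc : IsLimit c) {j : I}

variable (c) in
/-- `a` is a model over the stage `i` of the morphism `z` over the limit. -/
def IsModel {W Y : Over (D.obj j)} (z : Red.bc (c.π.app j) W ⟶ Red.bc (c.π.app j) Y) {i : I} (f : i ⟶ j)
    (a : Red.bc (D.map f) W ⟶ Red.bc (D.map f) Y) : Prop :=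
  pullback.fst (Red.bc (D.map f) W).hom (c.π.app i) ≫ a.left ≫ pullback.fst Y.hom (D.map f) =
    (cmp (c.w f) W).hom.left ≫ z.left ≫ pullback.fst Y.hom (c.π.app j)

theorem IsModel.map_eq {W Y : Over (D.obj j)} {z : Red.bc (c.π.app j) W ⟶ Red.bc (c.π.app j) Y} {i : I} {f : i ⟶ j}
    {a : Red.bc (D.map f) W ⟶ Red.bc (D.map f) Y} (ha : IsModel c z f a) :
    (Over.pullback (c.π.app i)).map a ≫ (cmp (c.w f) Y).hom = (cmp (c.w f) W).hom ≫ z := by
  refine bc_hom_ext ?_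
  simp only [Over.comp_left, Category.assoc, cmp_hom_fst]
  simp only [Over.pullback, Over.homMk_left, pullback.lift_fst_assoc, Category.assoc]
  exact ha

theorem IsModel.later {W Y : Over (D.obj j)} {z : Red.bc (c.π.app j) W ⟶ Red.bc (c.π.app j) Y} {i i' : I} {f : i ⟶ j}
    {a : Red.bc (D.map f) W ⟶ Red.bc (D.map f) Y} (ha : IsModel c z f a) (g : i' ⟶ i) :
    ∃ a' : Red.bc (D.map (g ≫ f)) W ⟶ Red.bc (D.map (g ≫ f)) Y, IsModel c z (g ≫ f) a' := by
  have hgf : D.map g ≫ D.map f = D.map (g ≫ f) := (D.map_comp g f).symm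
  refine ⟨(cmp hgf W).inv ≫ (Over.pullback (D.map g)).map a ≫ (cmp hgf Y).hom, ?_⟩
  unfold IsModel
  simp only [Over.pullback, Over.comp_left, Over.homMk_left, pullback.lift_fst, pullback.lift_fst_assoc, Category.assoc,
    cmp_hom_fst]
  let m : (Red.bc (c.π.app i') (Red.bc (D.map (g ≫ f)) W)).left ⟶ (Red.bc (c.π.app i) (Red.bc (D.map f) W)).left :=
    pullback.lift (pullback.fst _ _ ≫ (cmp hgf W).inv.left ≫ pullback.fst _ _) (pullback.snd _ _) (by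
      rw [Category.assoc, Category.assoc]
      show _ ≫ _ ≫ pullback.fst _ _ ≫ pullback.snd W.hom (D.map f) = _
      rw [cmp_inv_fst_snd, ← Category.assoc]
      exact (congrArg (· ≫ D.map g) pullback.condition).trans ((Category.assoc _ _ _).trans (congrArg (pullback.snd _ _ ≫ ·) (c.w g))))
  have hm : (cmp (c.w (g ≫ f)) W).hom.left = m ≫ (cmp (c.w f) W).hom.left := by
    refine pullback.hom_ext ?_ ?_
    · simp [m, pullback.lift_fst_assoc]
      exact (congrArg (pullback.fst _ _ ≫ ·) (cmp_inv_fst_fst hgf W)).symm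
    · simp [m, pullback.lift_snd]
  unfold IsModel at ha
  rw [hm, Category.assoc, ← ha, pullback.lift_fst_assoc, Category.assoc, Category.assoc]

include hc in
/-- A group scheme of finite presentation over the limit comes from a stage. -/
theorem exists_grpObj (G : Over c.pt) [GrpObj G] [LocallyOfFinitePresentation G.hom] [QuasiCompact G.hom]
    [QuasiSeparated G.hom] :
    ∃ (j : I) (Gj : Over (D.obj j)) (_ : GrpObj Gj) (e : G ≅ Red.bc (c.π.app j) Gj),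
      IsMonHom e.hom ∧ LocallyOfFinitePresentation Gj.hom ∧ QuasiCompact Gj.hom ∧ QuasiSeparated Gj.hom := by
  haveI : ∀ {i i' : I} (f : i ⟶ i'), IsAffineHom (D.map f) := fun {i i'} f => inferInstance
  obtain ⟨j, Z, h, q, _, _, _, hq⟩ := H8Lim.exists_stage_scheme hc G.hom
  let X : Over (D.obj j) := Over.mk h
  haveI : LocallyOfFinitePresentation X.hom := ‹LocallyOfFinitePresentation h›
  haveI : QuasiCompact X.hom := ‹QuasiCompact h›
  haveI : QuasiSeparated X.hom := ‹QuasiSeparated h›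
  let ε : G ≅ Red.bc (c.π.app j) X := Over.isoMk hq.isoPullback hq.isoPullback_hom_snd
  let F := Over.pullback (c.π.app j)
  obtain ⟨-, _, _⟩ := fp_tensor (G := X) (H := X)
  haveI : QuasiCompact (𝟙_ (Over (D.obj j))).hom := inferInstanceAs (QuasiCompact (𝟙 (D.obj j)))
  haveI : QuasiSeparated (𝟙_ (Over (D.obj j))).hom := inferInstanceAs (QuasiSeparated (𝟙 (D.obj j)))
  obtain ⟨i₁, f₁, a₁, h₁⟩ := exists_hom hc (j := j) (X := X ⊗ X) (Y := X)
    (((F.map (fst X X) ≫ ε.inv) * (F.map (snd X X) ≫ ε.inv)) ≫ ε.hom)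
  obtain ⟨i₂, f₂, a₂, h₂⟩ := exists_hom hc (j := j) (X := 𝟙_ (Over (D.obj j))) (Y := X) ((toUnit _ ≫ η[G]) ≫ ε.hom)
  obtain ⟨i₃, f₃, a₃, h₃⟩ := exists_hom hc (j := j) (X := X) (Y := X) ((ε.inv ≫ ι[G]) ≫ ε.hom)
  obtain ⟨i₄, g₁, g₂, h₁₂⟩ := IsCofiltered.cospan f₁ f₂
  obtain ⟨i, g₄, g₃, h₄⟩ := IsCofiltered.cospan (g₁ ≫ f₁) f₃
  let f := g₄ ≫ g₁ ≫ f₁
  obtain ⟨a, ha⟩ := IsModel.later h₁ (g₄ ≫ g₁)
  obtain ⟨b, hb⟩ := IsModel.later h₂ (g₄ ≫ g₂)
  obtain ⟨d, hd⟩ := IsModel.later h₃ g₃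
  have e₁ : (g₄ ≫ g₁) ≫ f₁ = f := Category.assoc _ _ _
  have e₂ : (g₄ ≫ g₂) ≫ f₂ = f := by rw [Category.assoc, ← h₁₂]
  have e₃ : g₃ ≫ f₃ = f := h₄.symm
  obtain ⟨a, ha⟩ : ∃ a : Red.bc (D.map f) (X ⊗ X) ⟶ Red.bc (D.map f) X, IsModel c (((F.map (fst X X) ≫ ε.inv) * (F.map (snd X X) ≫ ε.inv)) ≫ ε.hom) f a := e₁ ▸ ⟨a, ha⟩
  obtain ⟨b, hb⟩ : ∃ b : Red.bc (D.map f) (𝟙_ (Over (D.obj j))) ⟶ Red.bc (D.map f) X,
      IsModel c ((toUnit _ ≫ η[G]) ≫ ε.hom) f b := e₂ ▸ ⟨b, hb⟩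
  obtain ⟨d, hd⟩ : ∃ d : Red.bc (D.map f) X ⟶ Red.bc (D.map f) X, IsModel c ((ε.inv ≫ ι[G]) ≫ ε.hom) f d := e₃ ▸ ⟨d, hd⟩
  -- the structure maps at the stage
  let Φ := Over.pullback (c.π.app i)
  let Ψ := Over.pullback (D.map f)
  let Xi : Over (D.obj i) := Red.bc (D.map f) X
  let κ : Red.bc (c.π.app i) Xi ⟶ G := (cmp (c.w f) X).hom ≫ ε.inv
  haveI : IsIso κ := inferInstanceAs (IsIso ((cmp (c.w f) X).hom ≫ ε.inv))
  let m : Xi ⊗ Xi ⟶ Xi := Functor.LaxMonoidal.μ Ψ X X ≫ a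
  let e : 𝟙_ (Over (D.obj i)) ⟶ Xi := Functor.LaxMonoidal.ε Ψ ≫ b
  have hm : ∀ {T : Over (D.obj i)} (x y : T ⟶ Xi),
      Φ.map (lift x y ≫ m) ≫ κ = (Φ.map x ≫ κ) * (Φ.map y ≫ κ) := by
    intro T x y
    let w : T ⟶ Ψ.obj (X ⊗ X) := lift x y ≫ Functor.LaxMonoidal.μ Ψ X X
    have hw1 : w ≫ Ψ.map (fst X X) = x := by simp [w, Ψ, Xi]
    have hw2 : w ≫ Ψ.map (snd X X) = y := by simp [w, Ψ, Xi]
    have e0 : lift x y ≫ m = w ≫ a := (Category.assoc _ _ _).symm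
    have e1 : Φ.map (w ≫ a) ≫ κ = (Φ.map w ≫ (cmp (c.w f) (X ⊗ X)).hom) ≫
        ((F.map (fst X X) ≫ ε.inv) * (F.map (snd X X) ≫ ε.inv)) := by
      show Φ.map (w ≫ a) ≫ (cmp (c.w f) X).hom ≫ ε.inv = _
      rw [Φ.map_comp, Category.assoc, reassoc_of% IsModel.map_eq ha, Iso.hom_inv_id, Category.comp_id, ← Category.assoc]
    rw [e0, e1, MonObj.comp_mul]
    simp only [Category.assoc, κ]
    rw [← reassoc_of% (cmp_natural (c.w f) (fst X X)), ← reassoc_of% (cmp_natural (c.w f) (snd X X)),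
      ← Functor.map_comp_assoc, ← Functor.map_comp_assoc, hw1, hw2]
  have he : ∀ T : Over (D.obj i), Φ.map (toUnit T ≫ e) ≫ κ = 1 := by
    intro T
    let w : T ⟶ Ψ.obj (𝟙_ (Over (D.obj j))) := toUnit T ≫ Functor.LaxMonoidal.ε Ψ
    have e0 : toUnit T ≫ e = w ≫ b := (Category.assoc _ _ _).symm
    rw [e0]
    show Φ.map (w ≫ b) ≫ (cmp (c.w f) X).hom ≫ ε.inv = _
    rw [Φ.map_comp, Category.assoc, reassoc_of% IsModel.map_eq hb, Iso.hom_inv_id, Category.comp_id,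
      ← Category.assoc, ← Category.assoc, toUnit_unique ((Φ.map w ≫ _) ≫ toUnit _) (toUnit _)]
    exact Hom.one_def.symm
  have hd' : ∀ {T : Over (D.obj i)} (x : T ⟶ Xi), Φ.map (x ≫ d) ≫ κ = (Φ.map x ≫ κ)⁻¹ := by
    intro T x
    show Φ.map (x ≫ d) ≫ (cmp (c.w f) X).hom ≫ ε.inv = _
    rw [Φ.map_comp, Category.assoc, reassoc_of% IsModel.map_eq hd, Iso.hom_inv_id, Category.comp_id, Hom.inv_def]
    simp [κ]
  -- the axioms hold over a later stage
  haveI : QuasiCompact Xi.hom := inferInstanceAs (QuasiCompact (pullback.snd X.hom _))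
  haveI : QuasiSeparated Xi.hom := inferInstanceAs (QuasiSeparated (pullback.snd X.hom _))
  haveI : LocallyOfFinitePresentation Xi.hom := inferInstanceAs (LocallyOfFinitePresentation (pullback.snd X.hom _))
  obtain ⟨_, _, _⟩ := fp_tensor (G := Xi) (H := Xi)
  obtain ⟨_, _, _⟩ := fp_tensor (G := Xi ⊗ Xi) (H := Xi)
  have key : ∀ {T : Over (D.obj i)} {x y : T ⟶ Xi}, Φ.map x ≫ κ = Φ.map y ≫ κ → Φ.map x = Φ.map y :=
    fun h => (cancel_mono κ).1 h
  let P := (Xi ⊗ Xi) ⊗ Xi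
  let pa : P ⟶ Xi := fst (Xi ⊗ Xi) Xi ≫ fst Xi Xi
  let pb : P ⟶ Xi := fst (Xi ⊗ Xi) Xi ≫ snd Xi Xi
  let pc : P ⟶ Xi := snd (Xi ⊗ Xi) Xi
  let E : ∀ {T : Over (D.obj i)}, (T ⟶ Xi) → (T ⟶ Xi) → ∀ k, (k ⟶ i) → Prop :=
    fun x y k r => (Over.pullback (D.map r)).map x = (Over.pullback (D.map r)).map y
  have st : ∀ {T : Over (D.obj i)} (x y : T ⟶ Xi) {k k'} (g : k' ⟶ k) (r : k ⟶ i), E x y k r → E x y k' (g ≫ r) :=
    by intro T x y k k' g r h; exact map_eq_mono g h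
  have ex : ∀ {T : Over (D.obj i)} [QuasiCompact T.hom] [QuasiSeparated T.hom] (x y : T ⟶ Xi),
      Φ.map x ≫ κ = Φ.map y ≫ κ → ∃ k r, E x y k r := fun x y h => exists_eq hc x y (key h)
  obtain ⟨k, r, q₁, q₂, q₃, q₄, q₅⟩ :=
    exists_and (st _ _) (fun g r h => ⟨st _ _ g r h.1, st _ _ g r h.2.1, st _ _ g r h.2.2.1, st _ _ g r h.2.2.2⟩)
      (ex (lift (lift pa pb ≫ m) pc ≫ m) (lift pa (lift pb pc ≫ m) ≫ m) (by simp only [hm, _root_.mul_assoc]))
      (exists_and (st _ _) (fun g r h => ⟨st _ _ g r h.1, st _ _ g r h.2.1, st _ _ g r h.2.2⟩)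
        (ex (lift (toUnit Xi ≫ e) (𝟙 Xi) ≫ m) (𝟙 Xi) (by rw [hm, he, _root_.one_mul]))
        (exists_and (st _ _) (fun g r h => ⟨st _ _ g r h.1, st _ _ g r h.2⟩)
          (ex (lift (𝟙 Xi) (toUnit Xi ≫ e) ≫ m) (𝟙 Xi) (by rw [hm, he, _root_.mul_one]))
          (exists_and (st _ _) (st _ _)
            (ex (lift d (𝟙 Xi) ≫ m) (toUnit Xi ≫ e) (by
              rw [hm, he, ← Category.id_comp d, hd', inv_mul_cancel]))
            (ex (lift (𝟙 Xi) d ≫ m) (toUnit Xi ≫ e) (by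
              rw [hm, he, ← Category.id_comp d, hd', mul_inv_cancel])))))
  let Θ := Over.pullback (D.map r)
  let Y : Over (D.obj k) := Red.bc (D.map r) Xi
  let μT := Functor.LaxMonoidal.μ Θ Xi Xi
  let mY : Y ⊗ Y ⟶ Y := μT ≫ Θ.map m
  let eY : 𝟙_ (Over (D.obj k)) ⟶ Y := Functor.LaxMonoidal.ε Θ ≫ Θ.map e
  let νY : Y ⟶ Y := Θ.map d
  have hΘ : ∀ {W : Over (D.obj i)} (x y : W ⟶ Xi), Θ.map (lift x y ≫ m) = lift (Θ.map x) (Θ.map y) ≫ mY := by
    intro W x y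
    rw [Θ.map_comp, ← Category.assoc]
    congr 1
    rw [← cancel_mono (inv μT), Category.assoc, IsIso.hom_inv_id, Category.comp_id]
    apply CartesianMonoidalCategory.hom_ext
    · rw [lift_fst, ← Functor.Monoidal.μ_fst Θ, Category.assoc, IsIso.inv_hom_id_assoc, ← Θ.map_comp, lift_fst]
    · rw [lift_snd, ← Functor.Monoidal.μ_snd Θ, Category.assoc, IsIso.inv_hom_id_assoc, ← Θ.map_comp, lift_snd]
  have hΘe : ∀ (W : Over (D.obj i)), Θ.map (toUnit W ≫ e) = toUnit (Θ.obj W) ≫ eY := by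
    intro W
    rw [Θ.map_comp, ← Category.assoc]
    congr 1
    rw [← cancel_mono (inv (Functor.LaxMonoidal.ε Θ))]
    exact toUnit_unique _ _
  letI : GrpObj Y := by
    refine grpObjOfPoints mY eY νY ?_ ?_ ?_ ?_ ?_
    · intro T x y z
      let w : T ⟶ Θ.obj P := lift (lift x y ≫ μT) z ≫ Functor.LaxMonoidal.μ Θ (Xi ⊗ Xi) Xi
      have w1 : w ≫ Θ.map pa = x := by simp [w, pa, μT, Θ.map_comp, Y, Θ]
      have w2 : w ≫ Θ.map pb = y := by simp [w, pb, μT, Θ.map_comp, Y, Θ]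
      have w3 : w ≫ Θ.map pc = z := by simp [w, pc, Θ, Y]
      have h : w ≫ Θ.map (lift (lift pa pb ≫ m) pc ≫ m) = w ≫ Θ.map (lift pa (lift pb pc ≫ m) ≫ m) :=
        congrArg (w ≫ ·) q₁
      rw [hΘ, hΘ, hΘ, hΘ, ← Category.assoc, comp_lift, ← Category.assoc w, comp_lift, ← Category.assoc w, comp_lift,
        ← Category.assoc w, comp_lift, w1, w2, w3] at h
      exact h
    · intro T x
      have h : x ≫ Θ.map (lift (toUnit Xi ≫ e) (𝟙 Xi) ≫ m) = x ≫ Θ.map (𝟙 Xi) := congrArg (x ≫ ·) q₂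
      rw [hΘ, hΘe, ← Category.assoc, comp_lift, ← Category.assoc x, comp_toUnit, Θ.map_id] at h
      rw [show x ≫ 𝟙 (Θ.obj Xi) = x from Category.comp_id x] at h
      exact h
    · intro T x
      have h : x ≫ Θ.map (lift (𝟙 Xi) (toUnit Xi ≫ e) ≫ m) = x ≫ Θ.map (𝟙 Xi) := congrArg (x ≫ ·) q₃
      rw [hΘ, hΘe, ← Category.assoc, comp_lift, ← Category.assoc x, comp_toUnit, Θ.map_id] at h
      rw [show x ≫ 𝟙 (Θ.obj Xi) = x from Category.comp_id x] at h
      exact h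
    · intro T x
      have h : x ≫ Θ.map (lift d (𝟙 Xi) ≫ m) = x ≫ Θ.map (toUnit Xi ≫ e) := congrArg (x ≫ ·) q₄
      rw [hΘ, hΘe, ← Category.assoc, comp_lift, ← Category.assoc x, comp_toUnit, Θ.map_id] at h
      rw [show x ≫ 𝟙 (Θ.obj Xi) = x from Category.comp_id x] at h
      exact h
    · intro T x
      have h : x ≫ Θ.map (lift (𝟙 Xi) d ≫ m) = x ≫ Θ.map (toUnit Xi ≫ e) := congrArg (x ≫ ·) q₅
      rw [hΘ, hΘe, ← Category.assoc, comp_lift, ← Category.assoc x, comp_toUnit, Θ.map_id] at h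
      rw [show x ≫ 𝟙 (Θ.obj Xi) = x from Category.comp_id x] at h
      exact h
  let Λ := Over.pullback (c.π.app k)
  let τ : Red.bc (c.π.app k) Y ≅ Red.bc (c.π.app i) Xi := cmp (c.w r) Xi
  let κ' : Red.bc (c.π.app k) Y ⟶ G := τ.hom ≫ κ
  haveI : IsIso κ' := inferInstanceAs (IsIso (τ.hom ≫ κ))
  haveI : IsMonHom κ' := by
    refine isMonHom_of_mul _ fun T x y => ?_
    suffices h0 : (fst (Λ.obj Y) (Λ.obj Y) * snd (Λ.obj Y) (Λ.obj Y)) ≫ κ' =
        (fst _ _ ≫ κ') * (snd _ _ ≫ κ') by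
      have h1 := congrArg (lift x y ≫ ·) h0
      simp only [← Category.assoc, MonObj.comp_mul] at h1
      have hx : lift x y ≫ fst (Λ.obj Y) (Λ.obj Y) = x := lift_fst x y
      have hy : lift x y ≫ snd (Λ.obj Y) (Λ.obj Y) = y := lift_snd x y
      rw [hx, hy] at h1
      exact h1
    have e1 : μ[Red.bc (c.π.app k) Y] = Functor.LaxMonoidal.μ Λ Y Y ≫ Λ.map μT ≫ Λ.map (Θ.map m) := by
      rw [← Λ.map_comp]; rfl
    have h := hm (fst Xi Xi) (snd Xi Xi)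
    rw [lift_fst_snd, Category.id_comp] at h
    rw [Hom.mul_def, lift_fst_snd, Category.id_comp, e1]
    simp only [κ', τ, Category.assoc, Λ]
    rw [reassoc_of% (cmp_natural (c.w r) m), h]
    simp only [MonObj.comp_mul]
    rw [← reassoc_of% (cmp_natural (c.w r) (fst Xi Xi)), ← reassoc_of% (cmp_natural (c.w r) (snd Xi Xi))]
    simp only [μT, Θ, Y, ← Functor.map_comp_assoc, Functor.Monoidal.μ_fst, Functor.Monoidal.μ_snd]
    simp only [← Category.assoc, Functor.Monoidal.μ_fst, Functor.Monoidal.μ_snd]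
  haveI : IsMonHom (asIso κ').hom := ‹IsMonHom κ'›
  refine ⟨k, Y, inferInstance, (asIso κ').symm, inferInstanceAs (IsMonHom (asIso κ').inv), ?_, ?_, ?_⟩
  · exact inferInstanceAs (LocallyOfFinitePresentation (pullback.snd Xi.hom _))
  · exact inferInstanceAs (QuasiCompact (pullback.snd Xi.hom _))
  · exact inferInstanceAs (QuasiSeparated (pullback.snd Xi.hom _))

end Limit

end Groth.Agent.GrpLim26
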