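import Groth.Agent.GrpLim26.Quotient

/-!
# Effective quotients of equivalence relations along limits
-/

set_option autoImplicit false
set_option linter.style.haveILetI false
set_option backward.isDefEq.respectTransparency.types false
universe u

namespace Groth.Agent.GrpLim26
open CategoryTheory CategoryTheory.Limits MonoidalCategory CartesianMonoidalCategory MonObj GrpObj AlgebraicGeometry

variable {S S' : Scheme.{u}}

/-- The pair of maps has a representable effective quotient. -/
def HasEff {R X : Over S} (s t : R ⟶ X) : Prop :=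
  ∃ (Q : Over S) (p : X ⟶ Q), Flat p.left ∧ Surjective p.left ∧ LocallyOfFinitePresentation p.left ∧ IsPullback s t p p

theorem HasEff.of_iso {R R' X X' : Over S} (εX : X ≅ X') (εR : R ≅ R') {s t : R ⟶ X} {s' t' : R' ⟶ X'}
    (hs : s ≫ εX.hom = εR.hom ≫ s') (ht : t ≫ εX.hom = εR.hom ≫ t') (h : HasEff s t) : HasEff s' t' := by
  obtain ⟨Q, p, h1, h2, h3, sq⟩ := h
  haveI : IsIso εX.inv.left := inferInstanceAs (IsIso ((Over.forget S).map εX.inv))
  exact ⟨Q, εX.inv ≫ p, inferInstanceAs (Flat (εX.inv.left ≫ p.left)), inferInstanceAs (Surjective (εX.inv.left ≫ p.left)),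
    inferInstanceAs (LocallyOfFinitePresentation (εX.inv.left ≫ p.left)),
    IsPullback.of_iso sq εR εX εX (Iso.refl Q) hs ht (by simp) (by simp)⟩

theorem HasEff.bc (g : S' ⟶ S) {R X : Over S} {s t : R ⟶ X} (h : HasEff s t) :
    HasEff ((Over.pullback g).map s) ((Over.pullback g).map t) := by
  obtain ⟨Q, p, h1, h2, h3, sq⟩ := h
  have hp := SGA3UnitSec.isPullback_map_left g p
  exact ⟨Red.bc g Q, (Over.pullback g).map p, MorphismProperty.of_isPullback (P := @Flat) hp h1,
    MorphismProperty.of_isPullback (P := @Surjective) hp h2,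
    MorphismProperty.of_isPullback (P := @LocallyOfFinitePresentation) hp h3, sq.map (Over.pullback g)⟩

theorem fp_eff {R X Q : Over S} [LocallyOfFinitePresentation X.hom] [QuasiCompact X.hom] [QuasiSeparated X.hom]
    [QuasiCompact R.hom] (p : X ⟶ Q) [Flat p.left] [Surjective p.left] [LocallyOfFinitePresentation p.left]
    {s t : R ⟶ X} (sq : IsPullback s t p p) :
    LocallyOfFinitePresentation Q.hom ∧ QuasiCompact Q.hom ∧ QuasiSeparated Q.hom := by
  haveI : LocallyOfFinitePresentation (p.left ≫ Q.hom) := by rw [Over.w p]; infer_instance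
  haveI : QuasiCompact (p.left ≫ Q.hom) := by rw [Over.w p]; infer_instance
  haveI : QuasiSeparated (p.left ≫ Q.hom) := by rw [Over.w p]; infer_instance
  haveI : QuasiCompact p.left := by
    haveI := Et18.descends_quasiCompact.{u}
    refine MorphismProperty.of_isPullback_of_descendsAlong (P := @QuasiCompact)
      (Q := @Surjective ⊓ @Flat ⊓ @LocallyOfFinitePresentation) (sq.map (Over.forget S)).flip ⟨⟨‹_›, ‹_›⟩, ‹_›⟩ ?_
    haveI : QuasiCompact (t.left ≫ X.hom) := by rw [Over.w t]; infer_instance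
    exact QuasiCompact.of_comp t.left X.hom
  exact ⟨AlgSpLib.lfp_of_comp_fppf p.left Q.hom inferInstance, S5939.result p.left Q.hom⟩

theorem eff_transport {R R' X X' Q Q' : Over S} (εX : X ≅ X') (εR : R ≅ R') (εQ : Q ≅ Q') {s t : R ⟶ X} {s' t' : R' ⟶ X'}
    (hs : s ≫ εX.hom = εR.hom ≫ s') (ht : t ≫ εX.hom = εR.hom ≫ t') {p : X ⟶ Q} (h1 : Flat p.left) (h2 : Surjective p.left)
    (sq : IsPullback s t p p) {p' : X' ⟶ Q'} (hp : p ≫ εQ.hom = εX.hom ≫ p') :
    Flat p'.left ∧ Surjective p'.left ∧ IsPullback s' t' p' p' := by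
  obtain rfl : εX.inv ≫ p ≫ εQ.hom = p' := by rw [hp, Iso.inv_hom_id_assoc]
  haveI : IsIso εX.inv.left := inferInstanceAs (IsIso ((Over.forget S).map εX.inv))
  haveI : IsIso εQ.hom.left := inferInstanceAs (IsIso ((Over.forget S).map εQ.hom))
  exact ⟨inferInstanceAs (Flat (εX.inv.left ≫ p.left ≫ εQ.hom.left)),
    inferInstanceAs (Surjective (εX.inv.left ≫ p.left ≫ εQ.hom.left)),
    IsPullback.of_iso sq εR εX εX εQ hs ht (by simp) (by simp)⟩

end Groth.Agent.GrpLim26
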