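import Groth.Agent.GrpLim26.Quotient

/-!
# Torsors along limits
-/

set_option autoImplicit false
set_option linter.style.haveILetI false
set_option backward.isDefEq.respectTransparency.types false
universe u

namespace Groth.Agent.GrpLim26
open CategoryTheory CategoryTheory.Limits MonoidalCategory CartesianMonoidalCategory MonObj GrpObj AlgebraicGeometry

variable {S S' S'' : Scheme.{u}}

/-- The structure morphism has a finitely presented faithfully flat cover factoring through it. -/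
def FppfCovered (X : Over S) : Prop :=
  ∃ (Z : Scheme.{u}) (v : Z ⟶ S) (w : Z ⟶ X.left), w ≫ X.hom = v ∧
    Flat v ∧ Surjective v ∧ LocallyOfFinitePresentation v ∧ QuasiCompact v ∧ QuasiSeparated v

theorem FppfCovered.of_iso {X X' : Over S} (e : X ≅ X') (h : FppfCovered X) : FppfCovered X' := by
  obtain ⟨Z, v, w, hw, hv⟩ := h
  exact ⟨Z, v, w ≫ e.hom.left, by rw [Category.assoc, Over.w e.hom, hw], hv⟩

theorem FppfCovered.bc (g : S' ⟶ S) {X : Over S} (h : FppfCovered X) : FppfCovered (Red.bc g X) := by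
  obtain ⟨Z, v, w, hw, _, _, _, _, _⟩ := h
  exact ⟨pullback v g, pullback.snd v g,
    pullback.lift (pullback.fst v g ≫ w) (pullback.snd v g) (by rw [Category.assoc, hw, pullback.condition]),
    pullback.lift_snd _ _ _, inferInstance, inferInstance, inferInstance, inferInstance, inferInstance⟩

/-- The shear map after base change. -/
theorem isIso_shear_iff (g : S' ⟶ S) {G X : Over S} (act : G ⊗ X ⟶ X) :
    IsIso (lift (Functor.LaxMonoidal.μ (Over.pullback g) G X ≫ (Over.pullback g).map act)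
      (snd (Red.bc g G) (Red.bc g X))) ↔ IsIso ((Over.pullback g).map (lift act (snd G X))) := by
  let F := Over.pullback g
  have h : lift (Functor.LaxMonoidal.μ F G X ≫ F.map act) (snd (Red.bc g G) (Red.bc g X)) =
      Functor.LaxMonoidal.μ F G X ≫ F.map (lift act (snd G X)) ≫ Functor.OplaxMonoidal.δ F X X := by
    apply CartesianMonoidalCategory.hom_ext
    · rw [lift_fst, Category.assoc, Category.assoc, Functor.OplaxMonoidal.δ_fst, ← F.map_comp, lift_fst]
    · rw [lift_snd, Category.assoc, Category.assoc, Functor.OplaxMonoidal.δ_snd, ← F.map_comp, lift_snd,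
        Functor.Monoidal.μ_snd]
  rw [h, isIso_comp_left_iff, isIso_comp_right_iff]

theorem isIso_map_natIso {A B : Type*} [Category A] [Category B] {F F' : A ⥤ B} (e : F ≅ F') {X Y : A} {f : X ⟶ Y}
    (h : IsIso (F.map f)) : IsIso (F'.map f) := by
  rw [← NatIso.naturality_1 e f]
  infer_instance

section Limit
set_option linter.unusedSectionVars false
variable {I : Type u} [SmallCategory I] [IsCofiltered I] {D : I ⥤ Scheme.{u}} {c : Cone D}
  [∀ (i i' : I) (f : i ⟶ i'), IsAffineHom (D.map f)] [∀ i, CompactSpace (D.obj i)] [∀ i, QuasiSeparatedSpace (D.obj i)]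
  (hc : IsLimit c)

theorem isIso_map_later {i k k' : I} {g : k ⟶ i} (r : k' ⟶ k) {W P : Over (D.obj i)} {a : W ⟶ P}
    (h : IsIso ((Over.pullback (D.map g)).map a)) : IsIso ((Over.pullback (D.map (r ≫ g))).map a) :=
  isIso_map_natIso (cmpNat (D.map_comp r g).symm)
    (inferInstanceAs (IsIso ((Over.pullback (D.map r)).map ((Over.pullback (D.map g)).map a))))

include hc in
theorem exists_isIso {i : I} {W P : Over (D.obj i)} [LocallyOfFinitePresentation W.hom] [QuasiCompact W.hom]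
    [QuasiSeparated W.hom] [LocallyOfFinitePresentation P.hom] [QuasiCompact P.hom] [QuasiSeparated P.hom] (a : W ⟶ P)
    (h : IsIso ((Over.pullback (c.π.app i)).map a)) :
    ∃ (k : I) (g : k ⟶ i), IsIso ((Over.pullback (D.map g)).map a) := by
  let Φ := Over.pullback (c.π.app i)
  obtain ⟨k₁, g₁, hm⟩ := exists_mono hc a (inferInstanceAs (Mono (Φ.map a)))
  obtain ⟨k₂, g₂, hz⟩ := exists_lift hc a (𝟙 P) ⟨CategoryTheory.inv (Φ.map a), by
    rw [CategoryTheory.Functor.map_id]; exact IsIso.inv_hom_id _⟩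
  obtain ⟨k, r₁, r₂, hr⟩ := IsCofiltered.cospan g₁ g₂
  let Θ := Over.pullback (D.map (r₁ ≫ g₁))
  haveI : Mono (Θ.map a) := mono_mono r₁ hm
  obtain ⟨z, hz'⟩ : ∃ z, z ≫ Θ.map a = Θ.map (𝟙 P) := by
    show ∃ z, z ≫ (Over.pullback (D.map (r₁ ≫ g₁))).map a = (Over.pullback (D.map (r₁ ≫ g₁))).map (𝟙 P)
    rw [hr]; exact lift_mono r₂ hz
  haveI : IsSplitEpi (Θ.map a) := ⟨⟨z, hz'.trans (Θ.map_id _)⟩⟩
  exact ⟨k, r₁ ≫ g₁, isIso_of_mono_of_isSplitEpi _⟩

theorem fppfCovered_later {j k k' : I} {g : k ⟶ j} (r : k' ⟶ k) {X : Over (D.obj j)}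
    (h : FppfCovered (Red.bc (D.map g) X)) : FppfCovered (Red.bc (D.map (r ≫ g)) X) :=
  (h.bc (D.map r)).of_iso (cmp (D.map_comp r g).symm X)

include hc in
theorem exists_fppfCovered {j : I} (X : Over (D.obj j)) [LocallyOfFinitePresentation X.hom] [QuasiCompact X.hom]
    [QuasiSeparated X.hom] (h : FppfCovered (Red.bc (c.π.app j) X)) :
    ∃ (k : I) (g : k ⟶ j), FppfCovered (Red.bc (D.map g) X) := by
  haveI : ∀ {i i' : I} (f : i ⟶ i'), IsAffineHom (D.map f) := fun {i i'} f => inferInstance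
  obtain ⟨Z, v, w, hw, hv1, hv2, _, _, _⟩ := h
  obtain ⟨j', Z', hZ, qZ, _, _, _, hqZ⟩ := H8Lim.exists_stage_scheme hc v
  let i := IsCofiltered.min j j'
  let f : i ⟶ j := IsCofiltered.minToLeft j j'
  let f' : i ⟶ j' := IsCofiltered.minToRight j j'
  let Xi : Over (D.obj i) := Red.bc (D.map f) X
  let Y : Over (D.obj i) := Red.bc (D.map f') (Over.mk hZ)
  haveI : LocallyOfFinitePresentation Xi.hom := inferInstanceAs (LocallyOfFinitePresentation (pullback.snd X.hom _))
  haveI : QuasiCompact Xi.hom := inferInstanceAs (QuasiCompact (pullback.snd X.hom _))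
  haveI : QuasiSeparated Xi.hom := inferInstanceAs (QuasiSeparated (pullback.snd X.hom _))
  haveI : LocallyOfFinitePresentation Y.hom := inferInstanceAs (LocallyOfFinitePresentation (pullback.snd hZ _))
  haveI : QuasiCompact Y.hom := inferInstanceAs (QuasiCompact (pullback.snd hZ _))
  haveI : QuasiSeparated Y.hom := inferInstanceAs (QuasiSeparated (pullback.snd hZ _))
  let εZ : Over.mk v ≅ Red.bc (c.π.app i) Y :=
    (Over.isoMk hqZ.isoPullback hqZ.isoPullback_hom_snd : Over.mk v ≅ Red.bc (c.π.app j') (Over.mk hZ)) ≪≫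
      (cmp (c.w f') (Over.mk hZ)).symm
  let W : Red.bc (c.π.app i) Y ⟶ Red.bc (c.π.app i) Xi :=
    εZ.inv ≫ (Over.homMk w hw : Over.mk v ⟶ Red.bc (c.π.app j) X) ≫ (cmp (c.w f) X).inv
  obtain ⟨k₁, g₁, a, -⟩ := exists_hom hc W
  -- flatness and surjectivity of the cover
  let p : Y ⟶ 𝟙_ (Over (D.obj i)) := toUnit Y
  haveI : LocallyOfFinitePresentation (𝟙_ (Over (D.obj i))).hom := inferInstanceAs (LocallyOfFinitePresentation (𝟙 (D.obj i)))
  haveI : QuasiCompact (𝟙_ (Over (D.obj i))).hom := inferInstanceAs (QuasiCompact (𝟙 (D.obj i)))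
  haveI : QuasiSeparated (𝟙_ (Over (D.obj i))).hom := inferInstanceAs (QuasiSeparated (𝟙 (D.obj i)))
  have hp : ((Over.pullback (c.π.app i)).map p).left ≫ pullback.snd (𝟙 (D.obj i)) (c.π.app i) = εZ.inv.left ≫ v :=
    (Over.w ((Over.pullback (c.π.app i)).map p)).trans (Over.w εZ.inv).symm
  haveI : IsIso εZ.inv.left := inferInstanceAs (IsIso ((Over.forget _).map εZ.inv))
  haveI : IsIso (pullback.snd (𝟙 (D.obj i)) (c.π.app i)) := inferInstance
  have h1 : Flat ((Over.pullback (c.π.app i)).map p).left :=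
    (MorphismProperty.cancel_right_of_respectsIso @Flat _ (pullback.snd (𝟙 (D.obj i)) (c.π.app i))).mp
      (by rw [hp]; exact (MorphismProperty.cancel_left_of_respectsIso @Flat _ _).mpr hv1)
  have h2 : Surjective ((Over.pullback (c.π.app i)).map p).left :=
    (MorphismProperty.cancel_right_of_respectsIso @Surjective _ (pullback.snd (𝟙 (D.obj i)) (c.π.app i))).mp
      (by rw [hp]; exact (MorphismProperty.cancel_left_of_respectsIso @Surjective _ _).mpr hv2)
  obtain ⟨k₂, g₂, h1', h2'⟩ := exists_flat_surjective hc p h1 h2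
  obtain ⟨k, r₁, r₂, hr⟩ := IsCofiltered.cospan g₁ g₂
  have h3 := prop_later (P := @Flat) r₂ h1'
  have h4 := prop_later (P := @Surjective) r₂ h2'
  rw [← hr] at h3 h4
  let Yk : Over (D.obj k) := Red.bc (D.map (r₁ ≫ g₁)) Y
  have hY : (Yk.hom : Yk.left ⟶ D.obj k) =
      ((Over.pullback (D.map (r₁ ≫ g₁))).map p).left ≫ pullback.snd (𝟙 (D.obj i)) (D.map (r₁ ≫ g₁)) :=
    (Over.w ((Over.pullback (D.map (r₁ ≫ g₁))).map p)).symm
  let m : Yk ⟶ Red.bc (D.map ((r₁ ≫ g₁) ≫ f)) X :=
    (cmp (D.map_comp r₁ g₁).symm Y).inv ≫ (Over.pullback (D.map r₁)).map a ≫ (cmp (D.map_comp r₁ g₁).symm Xi).hom ≫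
      (cmp (D.map_comp (r₁ ≫ g₁) f).symm X).hom
  refine ⟨k, (r₁ ≫ g₁) ≫ f, Yk.left, Yk.hom, m.left, Over.w m, ?_, ?_, inferInstanceAs (LocallyOfFinitePresentation (pullback.snd Y.hom _)),
    inferInstanceAs (QuasiCompact (pullback.snd Y.hom _)), inferInstanceAs (QuasiSeparated (pullback.snd Y.hom _))⟩
  · rw [hY]; exact (MorphismProperty.cancel_right_of_respectsIso @Flat _ _).mpr h3
  · rw [hY]; exact (MorphismProperty.cancel_right_of_respectsIso @Surjective _ _).mpr h4

end Limit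

end Groth.Agent.GrpLim26
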